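import Mathlib
import Groth.Prelude.Def_Cyc
import Groth.Agent.TameLib.NormOrd
import Groth.Agent.TameLib.Len
import Groth.Agent.CycDivLib.Ord
import Groth.Agent.CycDivLib.Pull
import Groth.Agent.BiratLib.Finite

/-!
# Pushforward of principal divisors along a morphism finite near a point
-/

set_option autoImplicit false
set_option linter.style.haveILetI false
set_option linter.unusedSectionVars false

universe u

open AlgebraicGeometry CategoryTheory IsLocalRing

noncomputable section

namespace CycPushLib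

/-- The weighted orders of an element at the maximal ideals give the order of its norm. -/
theorem sum_ord_eq_ordFrac_norm {A B : Type u} [CommRing A] [IsDomain A] [IsNoetherianRing A] [IsLocalRing A]
    [Ring.KrullDimLE 1 A] [CommRing B] [IsDomain B] [Algebra A B] [Module.Finite A B]
    (hinj : Function.Injective (algebraMap A B)) [Fintype (MaximalSpectrum B)]
    (K L : Type u) [Field K] [Field L] [Algebra A K] [IsFractionRing A K] [Algebra B L] [IsFractionRing B L]
    [Algebra K L] [Algebra A L] [IsScalarTower A B L] [IsScalarTower A K L] [FiniteDimensional K L]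
    (b : B) (hb : b ≠ 0) :
    ∑ q : MaximalSpectrum B, (TameLib.deg A q : ℤ) *
        ((Ring.ord (Localization.AtPrime q.asIdeal) (algebraMap B _ b)).toNat : ℤ) =
      CycAlg.ordFrac A K (Algebra.norm K (algebraMap B L b)) := by
  obtain ⟨hfin, h⟩ := TameLib.length_quot_span_eq_ordFrac_norm hinj K L b hb
  rw [← h, TameLib.length_quot_span_eq A b hfin]
  rw [TameLib.length_quot_span_eq A b hfin] at hfin
  rw [CycDivLib.toNat_sum _ _ fun q hq => ne_top_of_le_ne_top hfin.ne
    (Finset.single_le_sum (f := fun q : MaximalSpectrum B =>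
      (TameLib.deg A q : ℕ∞) * Ring.ord (Localization.AtPrime q.asIdeal) (algebraMap B _ b))
      (fun _ _ => bot_le) hq)]
  exact Finset.sum_congr rfl fun q _ => by rw [ENat.toNat_mul, ENat.toNat_natCast, Nat.cast_mul]

section Semilocal

variable {A₀ B₀ : Type u} [CommRing A₀] [CommRing B₀] [Algebra A₀ B₀] (𝔭 : Ideal A₀) [𝔭.IsPrime]
  (A : Type u) [CommRing A] [Algebra A₀ A] [IsLocalization.AtPrime A 𝔭] [IsLocalRing A]
  (B : Type u) [CommRing B] [Algebra B₀ B] [IsLocalization (Algebra.algebraMapSubmonoid B₀ 𝔭.primeCompl) B]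
  [Algebra A B] [Algebra A₀ B] [IsScalarTower A₀ A B] [IsScalarTower A₀ B₀ B] [Module.Finite A B]

/-- The prime downstairs of a maximal ideal of the semilocal ring. -/
def primeBelow (q : MaximalSpectrum B) : PrimeSpectrum B₀ :=
  PrimeSpectrum.comap (algebraMap B₀ B) ⟨q.asIdeal, q.isMaximal.isPrime⟩

theorem primeBelow_asIdeal (q : MaximalSpectrum B) :
    (primeBelow (B₀ := B₀) B q).asIdeal = q.asIdeal.comap (algebraMap B₀ B) := rfl

include 𝔭 in
theorem primeBelow_injective : Function.Injective (primeBelow (B₀ := B₀) B) := by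
  intro q q' h
  apply MaximalSpectrum.ext
  rw [← IsLocalization.map_comap (Algebra.algebraMapSubmonoid B₀ 𝔭.primeCompl) B q.asIdeal,
    ← IsLocalization.map_comap (Algebra.algebraMapSubmonoid B₀ 𝔭.primeCompl) B q'.asIdeal]
  have h' : q.asIdeal.under B₀ = q'.asIdeal.under B₀ := congrArg PrimeSpectrum.asIdeal h
  rw [h']

include A in
theorem range_primeBelow :
    Set.range (primeBelow (B₀ := B₀) B) = {r | r.asIdeal.comap (algebraMap A₀ B₀) = 𝔭} := by
  haveI : Algebra.IsIntegral A B := Algebra.IsIntegral.of_finite A B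
  apply Set.Subset.antisymm
  · rintro _ ⟨q, rfl⟩
    haveI := q.isMaximal
    show ((primeBelow (B₀ := B₀) B q).asIdeal).comap (algebraMap A₀ B₀) = 𝔭
    rw [primeBelow_asIdeal, Ideal.comap_comap, ← IsScalarTower.algebraMap_eq A₀ B₀ B,
      IsScalarTower.algebraMap_eq A₀ A B, ← Ideal.comap_comap, TameLib.comap_max A q.asIdeal,
      show (maximalIdeal A).comap (algebraMap A₀ A) = 𝔭 from IsLocalization.AtPrime.comap_maximalIdeal A 𝔭]
  · intro r hr
    let M := Algebra.algebraMapSubmonoid B₀ 𝔭.primeCompl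
    have hdisj : Disjoint (M : Set B₀) r.asIdeal := Set.disjoint_left.2 (by
      rintro _ ⟨s, hs, rfl⟩ h
      exact hs (hr.le h))
    have hcq := IsLocalization.comap_map_of_isPrime_disjoint M B r.2 hdisj
    haveI : (r.asIdeal.map (algebraMap B₀ B)).IsPrime :=
      IsLocalization.isPrime_of_isPrime_disjoint M B _ r.2 hdisj
    have hmax : (r.asIdeal.map (algebraMap B₀ B)).IsMaximal := by
      refine Ideal.isMaximal_of_isIntegral_of_isMaximal_comap (R := A) _ ?_
      convert IsLocalRing.maximalIdeal.isMaximal A using 1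
      rw [← IsLocalization.map_comap 𝔭.primeCompl A ((r.asIdeal.map (algebraMap B₀ B)).comap (algebraMap A B)),
        ← IsLocalization.map_comap 𝔭.primeCompl A (maximalIdeal A), IsLocalization.AtPrime.comap_maximalIdeal A 𝔭,
        Ideal.under, Ideal.comap_comap, ← IsScalarTower.algebraMap_eq A₀ A B, IsScalarTower.algebraMap_eq A₀ B₀ B,
        ← Ideal.comap_comap,
        show (r.asIdeal.map (algebraMap B₀ B)).comap (algebraMap B₀ B) = r.asIdeal from hcq, hr]
    exact ⟨⟨_, hmax⟩, PrimeSpectrum.ext hcq⟩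

end Semilocal

variable {X Y : Scheme.{u}}

theorem residue_injective [IsIntegral Y] {ξ : Y} (h : ξ = genericPoint Y) : Function.Injective (Y.residue ξ).hom := by
  subst h
  letI : Field (Y.presheaf.stalk (genericPoint Y)) := inferInstanceAs (Field Y.functionField)
  exact RingHom.injective _

theorem evaluation_injective [IsIntegral Y] {ξ : Y} (h : ξ = genericPoint Y) (V : Y.Opens) (hV : ξ ∈ V) :
    Function.Injective (Y.evaluation V ξ hV).hom :=
  (residue_injective h).comp (germ_injective_of_isIntegral Y ξ hV)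

theorem specMap_germ {x ξ : X} (h : ξ ⤳ x) {U : X.Opens} (hx : x ∈ U) (hξ : ξ ∈ U) (a : Γ(X, U)) :
    Cyc.specMap x ξ h (X.presheaf.germ U x hx a) = X.evaluation U ξ hξ a :=
  congrArg (X.residue ξ) (TopCat.Presheaf.germ_stalkSpecializes_apply X.presheaf hx h a)

theorem ker_specMap_generic [IsIntegral X] {x ξ : X} (hξ : ξ = genericPoint X) (h : ξ ⤳ x) :
    RingHom.ker (Cyc.specMap x ξ h) = ⊥ := by
  obtain ⟨U, hU, hxU, -⟩ := exists_isAffineOpen_mem_and_subset (X := X) (x := x) (U := ⊤) trivial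
  have hξU : ξ ∈ U := h.mem_open U.isOpen hxU
  let alg := X.presheaf.algebra_section_stalk (⟨x, hxU⟩ : U)
  haveI : IsLocalization.AtPrime (X.presheaf.stalk x) (hU.primeIdealOf ⟨x, hxU⟩).asIdeal :=
    hU.isLocalization_stalk ⟨x, hxU⟩
  refine eq_bot_iff.2 fun z hz => ?_
  obtain ⟨a, s, rfl⟩ := IsLocalization.exists_mk'_eq (hU.primeIdealOf ⟨x, hxU⟩).asIdeal.primeCompl z
  rw [RingHom.mem_ker] at hz
  have h1 : X.evaluation U ξ hξU a = 0 := by
    rw [← specMap_germ h hxU hξU]
    show Cyc.specMap x ξ h (algebraMap Γ(X, U) (X.presheaf.stalk x) a) = 0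
    rw [← IsLocalization.mk'_spec (X.presheaf.stalk x) a s, map_mul, hz, zero_mul]
  have h2 : a = 0 := evaluation_injective hξ U hξU (h1.trans (map_zero _).symm)
  rw [h2, IsLocalization.mk'_zero]
  exact zero_mem _

theorem isFiniteLength_ord_of_generic [IsIntegral X] {x ξ : X} (hξ : ξ = genericPoint X) (h : ξ ⤳ x)
    [IsNoetherianRing (X.presheaf.stalk x)] (hd : EquidimLib.dimBetween ξ x ≤ 1) {U : X.Opens} (hx : x ∈ U)
    (hU : ξ ∈ U) {a : Γ(X, U)} (ha : a ≠ 0) :
    Cyc.ordAt x ξ h (X.evaluation U ξ hU a) =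
      ((Ring.ord (X.presheaf.stalk x) (X.presheaf.germ U x hx a)).toNat : ℤ) := by
  have hne : Cyc.specMap x ξ h (X.presheaf.germ U x hx a) ≠ 0 := by
    rw [specMap_germ h hx hU]
    exact fun h0 => ha (evaluation_injective hξ U hU (h0.trans (map_zero _).symm))
  rw [← specMap_germ h hx hU, CycDivLib.ordAt_specMap h hd hne, ← CycDivLib.ker_specMap, ker_specMap_generic hξ h,
    bot_sup_eq, Ring.ord]

theorem residueDegree_eq_finrank (p : X ⟶ Y) {V : Y.Opens} (hV : IsAffineOpen V) (x : X) (hxV : p x ∈ V)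
    (hU : IsAffineOpen (p ⁻¹ᵁ V)) {A : Type u} [CommRing A] [IsLocalRing A] [Algebra Γ(Y, V) A]
    [IsLocalization.AtPrime A (hV.primeIdealOf ⟨p x, hxV⟩).asIdeal] {C : Type u} [CommRing C] [IsLocalRing C]
    [Algebra Γ(X, p ⁻¹ᵁ V) C] [IsLocalization.AtPrime C (hU.primeIdealOf ⟨x, hxV⟩).asIdeal] [Algebra A C]
    [IsLocalHom (algebraMap A C)]
    (hcomm : ∀ a, algebraMap A C (algebraMap Γ(Y, V) A a) = algebraMap Γ(X, p ⁻¹ᵁ V) C (p.app V a)) :
    p.residueDegree x = Module.finrank (ResidueField A) (ResidueField C) := by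
  letI := Y.presheaf.algebra_section_stalk (⟨p x, hxV⟩ : V)
  letI := X.presheaf.algebra_section_stalk (⟨x, hxV⟩ : (p ⁻¹ᵁ V : X.Opens))
  haveI := hV.isLocalization_stalk ⟨p x, hxV⟩
  haveI := hU.isLocalization_stalk ⟨x, hxV⟩
  let gA : A ≃ₐ[Γ(Y, V)] Y.presheaf.stalk (p x) :=
    IsLocalization.algEquiv (hV.primeIdealOf ⟨p x, hxV⟩).asIdeal.primeCompl A (Y.presheaf.stalk (p x))
  let g : C ≃ₐ[Γ(X, p ⁻¹ᵁ V)] X.presheaf.stalk x :=
    IsLocalization.algEquiv (hU.primeIdealOf ⟨x, hxV⟩).asIdeal.primeCompl C (X.presheaf.stalk x)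
  have hc : (p.stalkMap x).hom.comp gA.toRingEquiv.toRingHom = g.toRingEquiv.toRingHom.comp (algebraMap A C) := by
    refine IsLocalization.ringHom_ext (hV.primeIdealOf ⟨p x, hxV⟩).asIdeal.primeCompl (RingHom.ext fun a => ?_)
    show p.stalkMap x (gA (algebraMap Γ(Y, V) A a)) = g (algebraMap A C (algebraMap Γ(Y, V) A a))
    rw [AlgEquiv.commutes, hcomm, AlgEquiv.commutes]
    exact p.germ_stalkMap_apply V x hxV a
  unfold Scheme.Hom.residueDegree
  letI := (p.residueFieldMap x).hom.toAlgebra
  let i : ResidueField A ≃+* Y.residueField (p x) := IsLocalRing.ResidueField.mapEquiv gA.toRingEquiv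
  let j : ResidueField C ≃+* X.residueField x := IsLocalRing.ResidueField.mapEquiv g.toRingEquiv
  refine (Algebra.finrank_eq_of_equiv_equiv i j ?_).symm
  refine RingHom.ext fun z => ?_
  obtain ⟨z, rfl⟩ := IsLocalRing.residue_surjective z
  show p.residueFieldMap x (Y.residue (p x) (gA z)) = X.residue x (g (algebraMap A C z))
  refine (congrArg (fun f : Y.presheaf.stalk (p x) ⟶ X.residueField x => f (gA z))
    (Scheme.residue_residueFieldMap p x)).trans ?_
  exact congrArg (X.residue x) (RingHom.congr_fun hc z)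

theorem ord_stalk_eq {U : X.Opens} (hU : IsAffineOpen U) {x : X} (hx : x ∈ U) {C : Type u} [CommRing C]
    [Algebra Γ(X, U) C] [IsLocalization.AtPrime C (hU.primeIdealOf ⟨x, hx⟩).asIdeal] (a : Γ(X, U)) :
    Ring.ord C (algebraMap Γ(X, U) C a) = Ring.ord (X.presheaf.stalk x) (X.presheaf.germ U x hx a) ∧
      ringKrullDim C = ringKrullDim (X.presheaf.stalk x) := by
  letI := X.presheaf.algebra_section_stalk (⟨x, hx⟩ : U)
  haveI := hU.isLocalization_stalk ⟨x, hx⟩
  let g : C ≃ₐ[Γ(X, U)] X.presheaf.stalk x :=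
    IsLocalization.algEquiv (hU.primeIdealOf ⟨x, hx⟩).asIdeal.primeCompl C (X.presheaf.stalk x)
  refine ⟨?_, ringKrullDim_eq_of_ringEquiv g.toRingEquiv⟩
  unfold Ring.ord
  rw [← CycDivLib.length_quot_map_ringEquiv g.toRingEquiv, Ideal.map_span, Set.image_singleton,
    show g.toRingEquiv.toRingHom (algebraMap Γ(X, U) C a) = X.presheaf.germ U x hx a from g.commutes a]

set_option maxHeartbeats 1000000 in
/-- Over a point near which the morphism is finite, the weighted orders of a regular function give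
the order of its norm. -/
theorem finsum_ord_eq_ordAt_norm [IsIntegral X] [IsIntegral Y] [IsLocallyNoetherian X] [IsLocallyNoetherian Y]
    (p : X ⟶ Y) (hgen : p (genericPoint X) = genericPoint Y)
    (hfd : (p.residueFieldMap (genericPoint X)).hom.Finite) {V : Y.Opens} (hV : IsAffineOpen V)
    (hU : IsAffineOpen (p ⁻¹ᵁ V)) (hfin : (p.app V).hom.Finite) {y : Y} (hy : y ∈ V)
    (hdim : ringKrullDim (Y.presheaf.stalk y) ≤ 1) (hsp : p (genericPoint X) ⤳ y)
    (hη : genericPoint X ∈ p ⁻¹ᵁ V) (b : Γ(X, p ⁻¹ᵁ V)) (hb : b ≠ 0) :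
    (p ⁻¹' {y}).Finite ∧ (∀ x, p x = y → EquidimLib.dimBetween (genericPoint X) x ≤ 1) ∧
    ∑ᶠ x ∈ p ⁻¹' {y}, Cyc.ordAt x (genericPoint X) (genericPoint_specializes x)
        (X.evaluation (p ⁻¹ᵁ V) (genericPoint X) hη b) * (p.residueDegree x : ℤ) =
      Cyc.ordAt y (p (genericPoint X)) hsp
        (Cyc.normGen p (genericPoint X) (X.evaluation (p ⁻¹ᵁ V) (genericPoint X) hη b)) := by
  classical
  have hηV : p (genericPoint X) ∈ V := hη
  let U := p ⁻¹ᵁ V
  haveI : Nonempty U := ⟨⟨_, hη⟩⟩
  haveI : IsDomain Γ(X, U) := IsIntegral.component_integral U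
  let A₀ := Γ(Y, V)
  let B₀ := Γ(X, U)
  letI : Algebra A₀ B₀ := (p.app V).hom.toAlgebra
  haveI : Module.Finite A₀ B₀ := hfin
  let 𝔭 := (hV.primeIdealOf ⟨y, hy⟩).asIdeal
  -- the local ring downstairs
  letI := Y.presheaf.algebra_section_stalk (⟨y, hy⟩ : V)
  haveI : IsLocalization.AtPrime (Y.presheaf.stalk y) 𝔭 := hV.isLocalization_stalk ⟨y, hy⟩
  have hker := ker_specMap_generic hgen hsp
  let A := Cyc.LocQuot y (p (genericPoint X)) hsp
  let eA : Y.presheaf.stalk y ≃ₐ[A₀] A := AlgEquiv.ofBijective (Ideal.Quotient.mkₐ A₀ _)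
    ⟨fun a a' h => sub_eq_zero.1 (Ideal.mem_bot.1 (hker ▸ Ideal.Quotient.eq.1 h)), Ideal.Quotient.mk_surjective⟩
  haveI : IsLocalization.AtPrime A 𝔭 := IsLocalization.isLocalization_of_algEquiv 𝔭.primeCompl eA
  haveI : IsLocalRing A := IsLocalization.AtPrime.isLocalRing A 𝔭
  haveI : Ring.KrullDimLE 1 A := Ring.krullDimLE_iff.2 (by
    rw [show ringKrullDim A = ringKrullDim (Y.presheaf.stalk y) from
      (ringKrullDim_eq_of_ringEquiv eA.toRingEquiv).symm]
    exact hdim)
  -- the fields
  let K := Y.residueField (p (genericPoint X))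
  let L := X.residueField (genericPoint X)
  letI algKL : Algebra K L := (p.residueFieldMap (genericPoint X)).hom.toAlgebra
  haveI : FiniteDimensional K L := hfd
  let ψ : A₀ →+* K := (Y.evaluation V _ hηV).hom
  let φ : B₀ →+* L := (X.evaluation U _ hη).hom
  have hψ : Function.Injective ψ := evaluation_injective hgen V hηV
  have hφ : Function.Injective φ := evaluation_injective rfl U hη
  have hnat : ∀ a, algebraMap K L (ψ a) = φ (algebraMap A₀ B₀ a) := fun a =>
    Scheme.evaluation_naturality_apply p (genericPoint X) hηV a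
  letI : Algebra A₀ K := ψ.toAlgebra
  haveI : IsScalarTower A₀ A K := IsScalarTower.of_algebraMap_eq fun a => (specMap_germ hsp hy hηV a).symm
  letI : Algebra B₀ L := φ.toAlgebra
  haveI : IsFractionRing B₀ L := by
    haveI : IsFractionRing B₀ X.functionField := functionField_isFractionRing_of_isAffineOpen X U hU
    let e : X.functionField ≃ₐ[B₀] L := AlgEquiv.ofBijective
      (AlgHom.mk (X.residue (genericPoint X)).hom fun a => rfl)
      ⟨residue_injective rfl, X.residue_surjective _⟩
    exact IsLocalization.isLocalization_of_algEquiv (nonZeroDivisors B₀) e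
  have hinj₀ : Function.Injective (algebraMap A₀ B₀) := fun a a' h =>
    hψ ((algebraMap K L).injective (by rw [hnat, hnat, h]))
  let M := Algebra.algebraMapSubmonoid B₀ 𝔭.primeCompl
  have hM : M ≤ nonZeroDivisors B₀ := by
    rintro _ ⟨s, hs, rfl⟩
    exact mem_nonZeroDivisors_of_ne_zero fun h => hs (by rw [hinj₀ (h.trans (map_zero _).symm)]; exact zero_mem _)
  let B := Localization M
  haveI : IsDomain B := IsLocalization.isDomain_localization hM
  letI algBL : Algebra B L := (IsLocalization.lift (M := M) (g := φ) fun s =>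
    isUnit_iff_ne_zero.2 ((_root_.map_ne_zero_iff _ hφ).2 (nonZeroDivisors.ne_zero (hM s.2)))).toAlgebra
  haveI : IsScalarTower B₀ B L := IsScalarTower.of_algebraMap_eq fun r => (IsLocalization.lift_eq _ r).symm
  haveI : IsFractionRing B L := IsFractionRing.isFractionRing_of_isDomain_of_isLocalization M B L
  letI algAB : Algebra A B := localizationAlgebra 𝔭.primeCompl B₀
  haveI : IsScalarTower A₀ A B := IsScalarTower.of_algebraMap_eq fun a => by
    rw [IsScalarTower.algebraMap_apply A₀ B₀ B]
    exact (IsLocalization.map_eq _ a).symm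
  haveI : Module.Finite A B := Module.Finite.of_isLocalization A₀ B₀ 𝔭.primeCompl
  letI algAL : Algebra A L := ((algebraMap K L).comp (algebraMap A K)).toAlgebra
  haveI : IsScalarTower A K L := IsScalarTower.of_algebraMap_eq fun _ => rfl
  haveI : IsScalarTower A B L := IsScalarTower.of_algebraMap_eq' (by
    refine IsLocalization.ringHom_ext 𝔭.primeCompl (RingHom.ext fun a => ?_)
    show algebraMap K L (algebraMap A K (algebraMap A₀ A a)) = algebraMap B L (algebraMap A B (algebraMap A₀ A a))
    rw [← IsScalarTower.algebraMap_apply A₀ A K, ← IsScalarTower.algebraMap_apply A₀ A B,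
      IsScalarTower.algebraMap_apply A₀ B₀ B, ← IsScalarTower.algebraMap_apply B₀ B L]
    exact hnat a)
  have hinj : Function.Injective (algebraMap A B) := by
    have h1 : Function.Injective (algebraMap A L) := (algebraMap K L).injective.comp (IsFractionRing.injective A K)
    intro a a' h
    exact h1 (by rw [IsScalarTower.algebraMap_apply A B L, h, ← IsScalarTower.algebraMap_apply A B L])
  haveI : Finite (MaximalSpectrum B) := TameLib.finite_maximalSpectrum A
  letI : Fintype (MaximalSpectrum B) := Fintype.ofFinite _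
  -- the points over `y`
  let e : MaximalSpectrum B → X := fun q => hU.fromSpec (primeBelow (B₀ := B₀) B q)
  have hover : ∀ r : PrimeSpectrum B₀,
      p (hU.fromSpec r) = hV.fromSpec (PrimeSpectrum.comap (algebraMap A₀ B₀) r) := fun r => by
    have := congrArg (fun g => g r) (IsAffineOpen.SpecMap_appLE_fromSpec p hV hU (le_refl (p ⁻¹ᵁ V)))
    simp only [← Scheme.Hom.app_eq_appLE] at this
    exact this.symm
  have hbelow := range_primeBelow (B₀ := B₀) 𝔭 A B
  have hey : ∀ q, p (e q) = y := fun q => by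
    have h : (primeBelow (B₀ := B₀) B q).asIdeal.comap (algebraMap A₀ B₀) = 𝔭 := hbelow.le ⟨q, rfl⟩
    rw [hover, show PrimeSpectrum.comap (algebraMap A₀ B₀) (primeBelow (B₀ := B₀) B q) = hV.primeIdealOf ⟨y, hy⟩
      from PrimeSpectrum.ext h, hV.fromSpec_primeIdealOf]
  have hinje : Function.Injective e :=
    hU.fromSpec.isOpenEmbedding.injective.comp (primeBelow_injective (B₀ := B₀) 𝔭 B)
  have hrange : p ⁻¹' {y} = Set.range e := by
    refine Set.Subset.antisymm (fun x hx => ?_) (Set.range_subset_iff.2 fun q => hey q)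
    have hxU : x ∈ U := by show p x ∈ V; rw [show p x = y from hx]; exact hy
    have hr : PrimeSpectrum.comap (algebraMap A₀ B₀) (hU.primeIdealOf ⟨x, hxU⟩) = hV.primeIdealOf ⟨y, hy⟩ := by
      apply hV.fromSpec.isOpenEmbedding.injective
      rw [← hover, hU.fromSpec_primeIdealOf, hV.fromSpec_primeIdealOf]
      exact hx
    obtain ⟨q, hq⟩ := hbelow.ge (congrArg PrimeSpectrum.asIdeal hr :
      (hU.primeIdealOf ⟨x, hxU⟩).asIdeal.comap (algebraMap A₀ B₀) = 𝔭)
    refine ⟨q, ?_⟩
    show hU.fromSpec (primeBelow (B₀ := B₀) B q) = x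
    rw [hq, hU.fromSpec_primeIdealOf]
  -- the comparison at one point
  have hpt : ∀ q : MaximalSpectrum B, EquidimLib.dimBetween (genericPoint X) (e q) ≤ 1 ∧
      Cyc.ordAt (e q) (genericPoint X) (genericPoint_specializes _) (φ b) * (p.residueDegree (e q) : ℤ) =
        (TameLib.deg A q : ℤ) *
          ((Ring.ord (Localization.AtPrime q.asIdeal) (algebraMap B _ (algebraMap B₀ B b))).toNat : ℤ) := by
    intro q
    haveI := q.isMaximal
    have hxU : e q ∈ U := by show p (e q) ∈ V; rw [hey]; exact hy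
    have hxV : p (e q) ∈ V := hxU
    have h1 : hU.primeIdealOf ⟨e q, hxU⟩ = primeBelow (B₀ := B₀) B q :=
      hU.fromSpec.isOpenEmbedding.injective (hU.fromSpec_primeIdealOf _)
    have h2 : hV.primeIdealOf ⟨p (e q), hxV⟩ = hV.primeIdealOf ⟨y, hy⟩ := by
      congr 1
      exact Subtype.ext (hey q)
    haveI : IsLocalization.AtPrime A (hV.primeIdealOf ⟨p (e q), hxV⟩).asIdeal := by
      have h : ∀ r, r = hV.primeIdealOf ⟨y, hy⟩ → IsLocalization.AtPrime A r.asIdeal := by
        rintro _ rfl
        infer_instance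
      exact h _ h2
    haveI : IsLocalization.AtPrime (Localization.AtPrime q.asIdeal) (hU.primeIdealOf ⟨e q, hxU⟩).asIdeal := by
      have h : ∀ r, r = primeBelow (B₀ := B₀) B q → IsLocalization.AtPrime (Localization.AtPrime q.asIdeal) r.asIdeal := by
        rintro _ rfl
        exact IsLocalization.isLocalization_isLocalization_atPrime_isLocalization M
          (Localization.AtPrime q.asIdeal) q.asIdeal
      exact h _ h1
    have hord := ord_stalk_eq hU hxU (C := Localization.AtPrime q.asIdeal) b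
    have hd : EquidimLib.dimBetween (genericPoint X) (e q) ≤ 1 := by
      rw [CycLimLib.dimBetween_eq_stalk (fun w _ => genericPoint_specializes w), ← hord.2]
      haveI := TameLib.krullDimLE_atPrime A q
      exact Ring.krullDimLE_iff.1 inferInstance
    refine ⟨hd, ?_⟩
    rw [isFiniteLength_ord_of_generic rfl _ hd hxU hη hb, mul_comm, ← IsScalarTower.algebraMap_apply B₀ B, ← hord.1,
      residueDegree_eq_finrank p hV (e q) hxV hU (A := A) (C := Localization.AtPrime q.asIdeal) fun a => by
        rw [IsScalarTower.algebraMap_apply A B (Localization.AtPrime q.asIdeal),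
          ← IsScalarTower.algebraMap_apply A₀ A B, IsScalarTower.algebraMap_apply A₀ B₀ B,
          ← IsScalarTower.algebraMap_apply B₀ B (Localization.AtPrime q.asIdeal)]
        rfl]
    rfl
  refine ⟨hrange ▸ Set.finite_range e, fun x hx => ?_, ?_⟩
  · have : x ∈ Set.range e := hrange ▸ hx
    obtain ⟨q, rfl⟩ := this
    exact (hpt q).1
  · rw [hrange, finsum_mem_range hinje, finsum_eq_sum_of_fintype, Finset.sum_congr rfl fun q _ => (hpt q).2,
      sum_ord_eq_ordFrac_norm hinj K L _ (fun h0 => hb (IsLocalization.injective B hM (h0.trans (map_zero _).symm))),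
      ← IsScalarTower.algebraMap_apply B₀ B L]
    rfl

end CycPushLib

end
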