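import Mathlib
import Groth.Prelude.Def_Cyc
import Groth.Agent.CycPushLib.Local
import Groth.Agent.CycLimLib.Dim
import Groth.Agent.S1862
import Groth.Agent.S1867

/-!
# Pushforward of principal divisors: the generically finite case
-/

set_option autoImplicit false
set_option linter.style.haveILetI false

universe u

open AlgebraicGeometry CategoryTheory

noncomputable section

namespace CycPushLib

variable {X Y : Scheme.{u}} [IsIntegral X] [IsIntegral Y]

theorem map_divFun_eq_divFun_norm {δX : X → ℤ} {δY : Y → ℤ} (hX : Cyc.IsSetup X δX) (hY : Cyc.IsSetup Y δY)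
    (p : X ⟶ Y) [IsProper p] (hδ : Cyc.DeltaCompat p δX δY) (hdom : p (genericPoint X) = genericPoint Y)
    (hn : δX (genericPoint X) = δY (genericPoint Y)) (f : X.residueField (genericPoint X)) (hf : f ≠ 0)
    (α : AlgebraicCycle X ℤ) (hα : ⇑α = Cyc.divFun δX (genericPoint X) f) :
    ⇑(AlgebraicCycle.map p δX δY α) =
      Cyc.divFun δY (p (genericPoint X)) (Cyc.normGen p (genericPoint X) f) := by
  classical
  haveI := hX.1
  haveI := hY.1
  have hfd : (p.residueFieldMap (genericPoint X)).hom.Finite := by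
    rcases Groth.Agent.S1862.result X Y δX δY hX hY p hδ hn with h | h
    · refine absurd ?_ h
      rw [dense_iff_closure_eq]
      apply Set.eq_univ_of_univ_subset
      rw [← (genericPoint_spec Y).def, ← hdom]
      exact closure_mono (Set.singleton_subset_iff.2 ⟨_, rfl⟩)
    · exact h.2
  funext y
  show ∑ᶠ x ∈ p ⁻¹' {y}, α x * ((AlgebraicCycle.mapCoeff p δX δY x : ℕ) : ℤ) = _
  have hsp : p (genericPoint X) ⤳ y := by rw [hdom]; exact genericPoint_specializes y
  by_cases hd : δY y + 1 = δY (p (genericPoint X))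
  swap
  · rw [Cyc.divFun, dif_neg fun h => hd h.2]
    refine finsum_mem_eq_zero_of_forall_eq_zero fun x hx => ?_
    rw [hα, Cyc.divFun]
    split_ifs with h
    · rw [AlgebraicCycle.mapCoeff]
      split_ifs with h'
      · have hxy : p.base x = y := hx
        rw [hdom] at hd
        rw [hxy] at h'
        omega
      · rw [Nat.cast_zero, mul_zero]
    · rw [zero_mul]
  obtain ⟨n, hn'⟩ := EquidimLib.exists_dimBetween_eq_nat hsp
  have h1 := CycLimLib.delta_eq_add hY hsp hn'
  have hdim : ringKrullDim (Y.presheaf.stalk y) = 1 := by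
    rw [← CycLimLib.dimBetween_eq_stalk (ξ := p (genericPoint X)) fun w _ => by
      rw [hdom]; exact genericPoint_specializes w, hn', show n = 1 by omega, Nat.cast_one]
  obtain ⟨V₁, hyV₁, hV₁⟩ := Groth.Agent.S1867.result X Y p hdom hfd y hdim
  obtain ⟨_, ⟨V, hV, rfl⟩, hyV, hVV⟩ := Y.isBasis_affineOpens.exists_subset_of_mem_open hyV₁ V₁.isOpen
  haveI : IsFinite (p ∣_ V) := BiratLib.restrict_of_le p (P := @IsFinite) hVV hV₁
  haveI : IsAffine (V : Scheme.{u}) := hV
  have hU : IsAffineOpen (p ⁻¹ᵁ V) := isAffine_of_isAffineHom (p ∣_ V)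
  have hfin := BiratLib.finite_app_of_restrict p V inferInstance
  have hη : genericPoint X ∈ p ⁻¹ᵁ V := hsp.mem_open V.isOpen hyV
  have key := fun b hb => finsum_ord_eq_ordAt_norm p hdom hfd hV hU hfin hyV hdim.le hsp hη b hb
  haveI : Nonempty (p ⁻¹ᵁ V : X.Opens) := ⟨⟨_, hη⟩⟩
  haveI : IsDomain Γ(X, p ⁻¹ᵁ V) := IsIntegral.component_integral _
  obtain ⟨hS, hd1, -⟩ := key 1 one_ne_zero
  letI := X.presheaf.algebra_section_stalk (⟨_, hη⟩ : (p ⁻¹ᵁ V : X.Opens))
  haveI := hU.isLocalization_stalk ⟨_, hη⟩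
  obtain ⟨φ, hφ⟩ := X.residue_surjective (genericPoint X) f
  obtain ⟨a, c, hac⟩ := IsLocalization.exists_mk'_eq (hU.primeIdealOf ⟨_, hη⟩).asIdeal.primeCompl φ
  let ev := (X.evaluation (p ⁻¹ᵁ V) (genericPoint X) hη).hom
  have hc : (c : Γ(X, p ⁻¹ᵁ V)) ≠ 0 := fun h => c.2 (h ▸ zero_mem _)
  have hevinj := evaluation_injective (rfl : genericPoint X = genericPoint X) (p ⁻¹ᵁ V) hη
  have hec : ev c ≠ 0 := (_root_.map_ne_zero_iff ev hevinj).2 hc
  have hfac : f * ev c = ev a := by
    rw [← hφ]
    show X.residue (genericPoint X) φ * X.residue (genericPoint X) (algebraMap _ _ (c : Γ(X, p ⁻¹ᵁ V))) = _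
    rw [← map_mul, ← hac, IsLocalization.mk'_spec]
    rfl
  have ha : a ≠ 0 := fun h => mul_ne_zero hf hec (hfac.trans (by rw [h, map_zero]))
  have hterm : ∀ x ∈ p ⁻¹' {y}, α x * ((AlgebraicCycle.mapCoeff p δX δY x : ℕ) : ℤ) =
      Cyc.ordAt x (genericPoint X) (genericPoint_specializes x) (ev a) * (p.residueDegree x : ℤ) -
        Cyc.ordAt x (genericPoint X) (genericPoint_specializes x) (ev c) * (p.residueDegree x : ℤ) := fun x hx => by
    have hxy : p.base x = y := hx
    have hne : genericPoint X ≠ x := fun h => by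
      rw [← h] at hxy
      have h' : p (genericPoint X) = y := hxy
      rw [h'] at hd
      omega
    obtain ⟨m, hm⟩ := EquidimLib.exists_dimBetween_eq_nat (genericPoint_specializes x)
    have h1' := EquidimLib.one_le_dimBetween (genericPoint_specializes x) hne
    have h2' := hd1 x hxy
    rw [hm] at h1' h2'
    have hm1 : m = 1 := le_antisymm (by exact_mod_cast h2') (by exact_mod_cast h1')
    have h3 := CycLimLib.delta_eq_add hX (genericPoint_specializes x) hm
    have hdx : δX x = δY (p.base x) := by rw [hxy]; rw [hdom] at hd; omega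
    rw [hα, Cyc.divFun, dif_pos ⟨genericPoint_specializes x, by omega⟩, AlgebraicCycle.mapCoeff, if_pos hdx,
      ← sub_mul, ← hfac, CycDivLib.ordAt_mul _ (hd1 x hxy) hf hec, add_sub_cancel_right]
  rw [finsum_mem_congr rfl hterm, finsum_mem_sub_distrib _ _ hS, (key a ha).2.2, (key c hc).2.2,
    Cyc.divFun, dif_pos ⟨hsp, hd⟩]
  letI := (p.residueFieldMap (genericPoint X)).hom.toAlgebra
  haveI : Module.Finite (Y.residueField (p (genericPoint X))) (X.residueField (genericPoint X)) := hfd
  have hN : ∀ z : X.residueField (genericPoint X), z ≠ 0 → Cyc.normGen p (genericPoint X) z ≠ 0 :=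
    fun z hz => Algebra.norm_ne_zero_iff.2 hz
  have hmul : Cyc.normGen p (genericPoint X) (ev a) =
      Cyc.normGen p (genericPoint X) f * Cyc.normGen p (genericPoint X) (ev c) := by
    rw [← hfac]
    exact map_mul (Algebra.norm (Y.residueField (p (genericPoint X)))) f (ev c)
  haveI : IsNoetherianRing (Y.presheaf.stalk y) := inferInstance
  show Cyc.ordAt _ _ hsp (Cyc.normGen p (genericPoint X) (ev a)) -
    Cyc.ordAt _ _ hsp (Cyc.normGen p (genericPoint X) (ev c)) = _
  rw [hmul, CycDivLib.ordAt_mul hsp (by rw [hn', show n = 1 by omega, Nat.cast_one]) (hN f hf) (hN _ hec),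
    add_sub_cancel_right]

end CycPushLib

end
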