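import Mathlib
import Groth.Prelude.Def_Cyc
import Groth.Agent.DetDegLib.Main
import Groth.Agent.TameLib.OrdFrac

/-!
# The degree of a principal divisor on a proper integral curve
-/

set_option autoImplicit false
set_option linter.style.haveILetI false
set_option linter.unusedSectionVars false

universe u

open CategoryTheory AlgebraicGeometry DevissLib

noncomputable section

namespace CycPushLib

variable {X : Scheme.{u}} [IsIntegral X]

theorem algebraMap_germ {x : X} {U : X.Opens} [Nonempty U] (hx : x ∈ U) (a : Γ(X, U)) :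
    algebraMap (X.presheaf.stalk x) X.functionField (X.presheaf.germ U x hx a) = X.germToFunctionField U a :=
  Scheme.algebraMap_germ_eq_germToFunctionField (X := X) hx a

theorem residueDegree_eq_toNat_resDeg {k : Type u} [Field k] [X.Over (Spec (CommRingCat.of k))] (x : X) :
    ((X ↘ Spec (CommRingCat.of k)).residueDegree x) =
      (letI : Algebra k (X.presheaf.stalk x) := Curv2.stalkAlgebra k X x
       DetDegLib.resDeg k (X.presheaf.stalk x)).toNat := by
  let p := X ↘ Spec (CommRingCat.of k)
  letI : Algebra k (X.presheaf.stalk x) := Curv2.stalkAlgebra k X x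
  letI := Curv2.resAlgebra k X x
  have e : (X.presheaf.stalk x ⧸ IsLocalRing.maximalIdeal (X.presheaf.stalk x)) ≃ₗ[k] X.residueField x :=
    { toFun := id
      map_add' := fun _ _ => rfl
      map_smul' := fun c z => by
        obtain ⟨z, rfl⟩ := Ideal.Quotient.mk_surjective z
        exact (map_mul (X.residue x).hom (Curv2.stalkMap k X x c) z)
      invFun := id
      left_inv := fun _ => rfl
      right_inv := fun _ => rfl }
  rw [DetDegLib.resDeg, e.length_eq, Module.length_eq_rank, Cardinal.toNat_toENat,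
    show Cardinal.toNat (Module.rank k (X.residueField x)) = Module.finrank k (X.residueField x) from rfl]
  let ι₀ : k →+* (Spec (CommRingCat.of k)).residueField (p x) :=
    ((Scheme.ΓSpecIso (CommRingCat.of k)).inv ≫ (Spec (CommRingCat.of k)).Γevaluation (p x)).hom
  have hb : Function.Bijective ι₀ := by
    refine ⟨ι₀.injective, ?_⟩
    let y : Spec (CommRingCat.of k) := p x
    let hT := isAffineOpen_top (Spec (CommRingCat.of k))
    letI := (Spec (CommRingCat.of k)).presheaf.algebra_section_stalk (⟨y, trivial⟩ : (⊤ : (Spec (CommRingCat.of k)).Opens))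
    haveI := hT.isLocalization_stalk ⟨y, trivial⟩
    intro z
    obtain ⟨φ, rfl⟩ := (Spec (CommRingCat.of k)).residue_surjective y z
    obtain ⟨a, s, rfl⟩ := IsLocalization.exists_mk'_eq (hT.primeIdealOf ⟨y, trivial⟩).asIdeal.primeCompl φ
    let j := Scheme.ΓSpecIso (CommRingCat.of k)
    have hs : j.hom s ≠ 0 := fun h => s.2 (by
      have := congrArg j.inv h
      rw [map_zero, Iso.hom_inv_id_apply] at this
      rw [this]
      exact zero_mem _)
    refine ⟨j.hom a / j.hom s, ?_⟩
    have hev : ∀ b : Γ(Spec (CommRingCat.of k), ⊤), ι₀ (j.hom b) = (Spec (CommRingCat.of k)).residue y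
        (algebraMap Γ(Spec (CommRingCat.of k), ⊤) _ b) := fun b => by
      show (Spec (CommRingCat.of k)).Γevaluation (p x) (j.inv (j.hom b)) = _
      rw [Iso.hom_inv_id_apply]
      rfl
    rw [map_div₀, hev, hev, div_eq_iff, ← map_mul, IsLocalization.mk'_spec]
    exact fun h => hs (ι₀.injective (by rw [hev, map_zero]; exact h))
  rw [Scheme.Hom.residueDegree]
  letI := (p.residueFieldMap x).hom.toAlgebra
  refine Algebra.finrank_eq_of_equiv_equiv (RingEquiv.ofBijective ι₀ hb).symm (RingEquiv.refl _) ?_
  refine RingHom.ext fun r => ?_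
  obtain ⟨c, rfl⟩ := (RingEquiv.ofBijective ι₀ hb).surjective r
  change Curv2.resMap k X x ((RingEquiv.ofBijective ι₀ hb).symm (RingEquiv.ofBijective ι₀ hb c)) =
    p.residueFieldMap x (ι₀ c)
  rw [RingEquiv.symm_apply_apply]
  exact (Scheme.Γevaluation_naturality_apply p x _).symm

theorem finsum_deg_ord_eq_zero {k : Type u} [Field k] [X.Over (Spec (CommRingCat.of k))]
    [IsProper (X ↘ Spec (CommRingCat.of k))] (hdim : topologicalKrullDim X ≤ 1) (f : X.functionField) (hf : f ≠ 0) :
    ∑ᶠ (x : X) (_ : IsClosed ({x} : Set X)), ((X ↘ Spec (CommRingCat.of k)).residueDegree x : ℤ) *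
      CycAlg.ordFrac (X.presheaf.stalk x) X.functionField f = 0 := by
  classical
  haveI := CurvLib.isNoetherian k (X := X)
  let M := Coh.structureModule X
  haveI : Coh.IsQCoh M := QCohLib.isQCoh_unit
  obtain ⟨U, hU, r, hne, hr, hru⟩ := exists_isUnit_germ_eq X f hf
  haveI := hne
  have hηU : genericPoint X ∈ U := ((genericPoint_spec X).mem_open_set_iff U.isOpen).2
    ⟨hne.some.1, trivial, hne.some.2⟩
  have hTd : topologicalKrullDim ↥((U : Set X)ᶜ) ≤ 0 :=
    CurvLib.dim_le_zero_of_no_maximal hdim U.isOpen.isClosed_compl fun x hx =>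
      ⟨genericPoint X, genericPoint_specializes x, fun h => hx (h ▸ hηU)⟩
  obtain ⟨hT, hTc⟩ := CurvLib.finite_isClosed_of_dim_le_zero U.isOpen.isClosed_compl hTd
  have hk : ∀ x : X, Ring.KrullDimLE 1 (X.presheaf.stalk x) := CurveAmpLib.krullDimLE_stalk hdim
  have h1 : ∀ (V : X.Opens) (x : X) (h : x ∈ V), AmpleLib.GenAt M (show Γ(M, V) from (1 : Γ(X, V))) h :=
    fun V x h => (AmpleLib.one_genOn V).genAt h
  -- the expressions of `f` at every point
  have hdat : ∀ x : X, ∃ (d n : X.presheaf.stalk x), d ≠ 0 ∧ n ≠ 0 ∧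
      f * algebraMap _ X.functionField d = algebraMap _ X.functionField n ∧
      ∃ b : Fin 1 → (St x).obj M, Function.Bijective (fun c : Fin 1 → X.presheaf.stalk x => ∑ i, c i • b i) ∧
        Function.Injective ((St x).map (DetDegLib.eta U M)).hom ∧
        ∀ j : Fin 1, d • gm (DetDegLib.Pu U M) x (show x ∈ (⊤ : X.Opens) from trivial)
            (DetDegLib.eP (show Γ(M, U) from r)) =
          ∑ i, (Matrix.of fun (_ _ : Fin 1) => n) i j • ((St x).map (DetDegLib.eta U M)).hom (b i) := by
    intro x
    obtain ⟨V, hV, hxV⟩ := QCohLib.exists_affine_nhd x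
    haveI : Nonempty V := ⟨⟨x, hxV⟩⟩
    haveI : IsDomain Γ(X, V) := IsIntegral.component_integral V
    haveI := functionField_isFractionRing_of_isAffineOpen X V hV
    obtain ⟨a, s, hs, has⟩ := IsFractionRing.div_surjective (A := Γ(X, V)) f
    have hs0 : X.germToFunctionField V s ≠ 0 :=
      (_root_.map_ne_zero_iff _ (Scheme.germToFunctionField_injective X V)).2 (nonZeroDivisors.ne_zero hs)
    have hmul : f * X.germToFunctionField V s = X.germToFunctionField V a := by
      rw [← has]
      exact div_mul_cancel₀ _ hs0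
    have hηV : genericPoint X ∈ V := (genericPoint_specializes x).mem_open V.isOpen hxV
    refine ⟨X.presheaf.germ V x hxV s, X.presheaf.germ V x hxV a,
      fun h => hs0 (by rw [← algebraMap_germ hxV, h, map_zero]),
      fun h => mul_ne_zero hf hs0 (by rw [hmul, ← algebraMap_germ hxV, h, map_zero]), ?_,
      fun _ => gm M x hxV (show Γ(M, V) from (1 : Γ(X, V))),
      (DetDegLib.frameAt_one_iff (M := M) (show Γ(M, V) from (1 : Γ(X, V))) hxV).2 (h1 V x hxV), ?_, fun j => ?_⟩
    · rw [algebraMap_germ, algebraMap_germ, hmul]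
    · obtain ⟨g, hgU, hηg⟩ := QCohLib.exists_basicOpen_nhd hV hηU hηV
      exact DetDegLib.eta_injective (n := 1) hV (fun _ => (show Γ(M, V) from (1 : Γ(X, V))))
        (fun y hy => (DetDegLib.frameAt_one_iff (M := M) (show Γ(M, V) from (1 : Γ(X, V))) hy).2 (h1 V y hy))
        (mem_nonZeroDivisors_of_ne_zero fun h => by
          rw [h, Scheme.basicOpen_zero] at hηg
          exact hηg) hgU hxV
    · have hz : X.presheaf.map (homOfLE (inf_le_left : V ⊓ U ≤ V)).op s *
          X.presheaf.map (homOfLE (inf_le_right : V ⊓ U ≤ U)).op r =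
            X.presheaf.map (homOfLE (inf_le_left : V ⊓ U ≤ V)).op a := by
        apply germ_injective_of_isIntegral X (genericPoint X) (show genericPoint X ∈ V ⊓ U from ⟨hηV, hηU⟩)
        rw [map_mul, TopCat.Presheaf.germ_res_apply, TopCat.Presheaf.germ_res_apply,
          TopCat.Presheaf.germ_res_apply, mul_comm]
        exact (congrArg (· * X.germToFunctionField V s) hr).trans hmul
      refine (DetDegLib.gm_rel (M := M) hxV s (show Γ(M, U) from r) (show Γ(M, V) from a) hz).trans ?_
      rw [Fin.sum_univ_one, Matrix.of_apply, ← map_smul, ← gm_smul]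
      exact congrArg _ (congrArg (gm M x hxV) (mul_one a).symm)
  choose d n hd hn hdn b hb hη hrel using hdat
  have he : ∀ (x : X) (hx : x ∈ U), DetDegLib.FrameAt M (fun _ : Fin 1 => (show Γ(M, U) from r)) hx := by
    intro x hx
    refine (DetDegLib.frameAt_one_iff (M := M) (show Γ(M, U) from r) hx).2 ?_
    have := (AmpleLib.genAt_smul_iff r (show Γ(M, U) from (1 : Γ(X, U))) hx (h1 U x hx)).2 (by
      rw [Scheme.mem_basicOpen X r x hx]; exact hru.map _)
    exact (congrArg (fun z : Γ(X, U) => AmpleLib.GenAt M (show Γ(M, U) from z) hx) (mul_one r)).mp this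
  have h := DetDegLib.euler_frame (n := 1) k hdim (DevissLib.isCoh_structureModule X) (fun _ => (show Γ(M, U) from r))
    hT hTd he d (fun x => Matrix.of fun (_ _ : Fin 1) => n x) fun x _ =>
      ⟨b x, hb x, mem_nonZeroDivisors_of_ne_zero (hd x),
        mem_nonZeroDivisors_of_ne_zero (by rw [Matrix.det_fin_one]; exact hn x), hη x, hrel x⟩
  simp only [Matrix.det_fin_one, Matrix.of_apply, pow_one, Nat.cast_one, one_mul, sub_self] at h
  have hord : ∀ x : X, CycAlg.ordFrac (X.presheaf.stalk x) X.functionField f =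
      ((Ring.ord (X.presheaf.stalk x) (n x)).toNat : ℤ) - (Ring.ord (X.presheaf.stalk x) (d x)).toNat := by
    intro x
    haveI := hk x
    have h2 := TameLib.ordFrac_mul (R := X.presheaf.stalk x) hf
      ((_root_.map_ne_zero_iff _ (IsFractionRing.injective (X.presheaf.stalk x) X.functionField)).2 (hd x))
    rw [hdn, TameLib.ordFrac_algebraMap (hn x), TameLib.ordFrac_algebraMap (hd x)] at h2
    omega
  have hzero : ∀ x ∈ U, CycAlg.ordFrac (X.presheaf.stalk x) X.functionField f = 0 := by
    intro x hx
    haveI := hk x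
    rw [← hr, ← algebraMap_germ hx, TameLib.ordFrac_algebraMap ((hru.map _).ne_zero),
      Ring.ord_of_isUnit (hru.map _)]
    rfl
  rw [finsum_eq_finsetSum_of_support_subset _ (s := hT.toFinset) (fun x hx => by
    rw [Set.Finite.coe_toFinset]
    intro hxU
    apply hx
    simp only [hzero x hxU, mul_zero, finsum_eq_if, ite_self])]
  rw [h]
  refine Finset.sum_congr rfl fun x hx => ?_
  have hxT : x ∈ (U : Set X)ᶜ := hT.mem_toFinset.1 hx
  rw [finsum_eq_if, if_pos (hTc x hxT), hord]
  rw [DetDegLib.degTerm, residueDegree_eq_toNat_resDeg]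

end CycPushLib

end
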