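import Mathlib
import Groth.Prelude.Def_Cyc
import Groth.Agent.CycDivLib.Ord
import Groth.Agent.CycDivLib.PullAlg
import Groth.Agent.CycPushLib.Curve
import Groth.Agent.CycPushLib.Local
import Groth.Agent.CycLimLib.Dim
import Groth.Agent.UOpenLib.FibreDim

/-!
# Pushforward of principal divisors: the case of positive relative dimension
-/

set_option autoImplicit false
set_option linter.style.haveILetI false
set_option linter.unusedSectionVars false

universe u

open AlgebraicGeometry CategoryTheory

noncomputable section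

namespace CycPushLib

variable {X Y Z : Scheme.{u}}

theorem residueDegree_comp (f : X ⟶ Y) (g : Y ⟶ Z) (x : X) :
    (f ≫ g).residueDegree x = f.residueDegree x * g.residueDegree (f x) := by
  unfold AlgebraicGeometry.Scheme.Hom.residueDegree
  letI : Algebra (Z.residueField (g (f x))) (Y.residueField (f x)) := (g.residueFieldMap (f x)).hom.toAlgebra
  letI : Algebra (Y.residueField (f x)) (X.residueField x) := (f.residueFieldMap x).hom.toAlgebra
  letI : Algebra (Z.residueField (g (f x))) (X.residueField x) := ((f ≫ g).residueFieldMap x).hom.toAlgebra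
  haveI : IsScalarTower (Z.residueField (g (f x))) (Y.residueField (f x)) (X.residueField x) :=
    IsScalarTower.of_algebraMap_eq fun a => congrArg (fun e => e.hom a) (Scheme.residueFieldMap_comp f g x)
  rw [mul_comm]
  exact (Module.finrank_mul_finrank (Z.residueField (g (f x))) (Y.residueField (f x)) (X.residueField x)).symm

theorem residueDegree_eq_one_of_preimmersion (f : X ⟶ Y) [IsPreimmersion f] (x : X) : f.residueDegree x = 1 := by
  unfold AlgebraicGeometry.Scheme.Hom.residueDegree
  letI := (f.residueFieldMap x).hom.toAlgebra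
  have hb : Function.Bijective (algebraMap (Y.residueField (f x)) (X.residueField x)) := by
    refine ⟨RingHom.injective _, fun z => ?_⟩
    obtain ⟨a, rfl⟩ := X.residue_surjective x z
    obtain ⟨b, rfl⟩ := f.stalkMap_surjective x a
    exact ⟨Y.residue (f x) b, congrArg (fun φ : Y.presheaf.stalk (f x) ⟶ X.residueField x => φ b)
      (Scheme.residue_residueFieldMap f x)⟩
  rw [← Algebra.finrank_eq_of_equiv_equiv (RingEquiv.refl (Y.residueField (f x)))
    (RingEquiv.ofBijective _ hb) (by ext; rfl)]
  exact Module.finrank_self _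

theorem flat_fromSpecResidueField_generic [IsIntegral Y] {η : Y} (hη : η = genericPoint Y) :
    Flat (Y.fromSpecResidueField η) := by
  refine Flat.of_stalkMap _ fun s => ?_
  have hs : Y.fromSpecResidueField η s = genericPoint Y := (Scheme.fromSpecResidueField_apply η s).trans hη
  have hF : IsField (Y.presheaf.stalk (Y.fromSpecResidueField η s)) := by
    rw [hs]
    exact Field.toIsField Y.functionField
  letI := hF.toField
  letI := (Scheme.Hom.stalkMap (Y.fromSpecResidueField η) s).hom.toAlgebra
  show Module.Flat _ _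
  infer_instance

theorem stalkMap_bijective_of_flat (f : X ⟶ Y) [IsPreimmersion f] [Flat f] (x : X) :
    Function.Bijective (f.stalkMap x).hom := by
  refine ⟨?_, f.stalkMap_surjective x⟩
  letI := (f.stalkMap x).hom.toAlgebra
  haveI : Module.Flat (Y.presheaf.stalk (f x)) (X.presheaf.stalk x) := Flat.stalkMap f x
  haveI : IsLocalHom (algebraMap (Y.presheaf.stalk (f x)) (X.presheaf.stalk x)) :=
    inferInstanceAs (IsLocalHom (f.stalkMap x).hom)
  haveI := Module.FaithfullyFlat.of_flat_of_isLocalHom (A := Y.presheaf.stalk (f x)) (B := X.presheaf.stalk x)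
  exact FaithfulSMul.algebraMap_injective (Y.presheaf.stalk (f x)) (X.presheaf.stalk x)

/-- Orders can be computed after a morphism which is bijective on stalks. -/
theorem ordAt_eq_ordFrac_of_bijective [IsIntegral X] {C : Scheme.{u}} [IsIntegral C] (ι : C ⟶ X)
    (hbij : ∀ z, Function.Bijective (ι.stalkMap z).hom) (hgc : ι (genericPoint C) = genericPoint X) (z : C)
    [IsNoetherianRing (X.presheaf.stalk (ι z))]
    (h : ι (genericPoint C) ⤳ ι z) (hd : EquidimLib.dimBetween (ι (genericPoint C)) (ι z) ≤ 1)
    (hC : Ring.KrullDimLE 1 (C.presheaf.stalk z)) [IsNoetherianRing (C.presheaf.stalk z)]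
    (φ : X.presheaf.stalk (ι (genericPoint C))) (hφ : X.residue _ φ ≠ 0) :
    Cyc.ordAt (ι z) (ι (genericPoint C)) h (X.residue _ φ) =
      CycAlg.ordFrac (C.presheaf.stalk z) C.functionField (ι.stalkMap (genericPoint C) φ) := by
  let σ := Cyc.specMap (ι z) (ι (genericPoint C)) h
  obtain ⟨a, b, hb, hab⟩ := CycDivLib.exists_div h (X.residue _ φ)
  have ha : σ a ≠ 0 := fun h0 => hφ (by rw [hab, show Cyc.specMap _ _ h a = σ a from rfl, h0, zero_div])
  have hmul : φ * X.presheaf.stalkSpecializes h b = X.presheaf.stalkSpecializes h a := by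
    apply residue_injective hgc
    rw [map_mul, hab]
    exact div_mul_cancel₀ _ hb
  let e : X.presheaf.stalk (ι z) ≃+* C.presheaf.stalk z := RingEquiv.ofBijective _ (hbij z)
  have hsp : ∀ c, ι.stalkMap (genericPoint C) (X.presheaf.stalkSpecializes h c) =
      algebraMap (C.presheaf.stalk z) C.functionField (e c) := fun c =>
    ι.stalkSpecializes_stalkMap_apply (genericPoint C) z (genericPoint_specializes z) c
  have hne : ∀ c, σ c ≠ 0 → e c ≠ 0 := fun c hc h0 => hc (by
    rw [show σ c = X.residue _ (X.presheaf.stalkSpecializes h c) from rfl,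
      (map_eq_zero_iff e e.injective).1 h0, map_zero, map_zero])
  have hg : ι.stalkMap (genericPoint C) φ ≠ 0 := fun h0 => hφ (by
    rw [(map_eq_zero_iff (ι.stalkMap (genericPoint C)).hom (hbij _).1).1 h0, map_zero])
  have hlen : ∀ c, σ c ≠ 0 → ((Ring.ord (C.presheaf.stalk z) (e c)).toNat : ℤ) = Cyc.ordAt _ _ h (σ c) :=
    fun c hc => by
      rw [CycDivLib.ordAt_specMap h hd hc, ← CycDivLib.ker_specMap, ker_specMap_generic hgc h, bot_sup_eq]
      unfold Ring.ord
      rw [show Ideal.span {e c} = (Ideal.span {c}).map e.toRingHom from by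
        rw [Ideal.map_span, Set.image_singleton]; rfl, CycDivLib.length_quot_map_ringEquiv]
  have h2 := TameLib.ordFrac_mul (R := C.presheaf.stalk z) hg
    ((_root_.map_ne_zero_iff _ (IsFractionRing.injective (C.presheaf.stalk z) C.functionField)).2 (hne b hb))
  rw [← hsp, ← map_mul, hmul, hsp, hsp, TameLib.ordFrac_algebraMap (hne a ha),
    TameLib.ordFrac_algebraMap (hne b hb), hlen a ha, hlen b hb] at h2
  rw [hab, CycDivLib.ordAt_div h hd ha hb]
  linarith

theorem ordFrac_eq_zero_of_isField {R K : Type u} [CommRing R] [IsDomain R] [IsNoetherianRing R]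
    [Ring.KrullDimLE 1 R] [Field K] [Algebra R K] [IsFractionRing R K] (hR : IsField R) {g : K} (hg : g ≠ 0) :
    CycAlg.ordFrac R K g = 0 := by
  obtain ⟨a, b, hb, rfl⟩ := IsFractionRing.div_surjective (A := R) g
  obtain ⟨c, hc⟩ := hR.mul_inv_cancel (nonZeroDivisors.ne_zero hb)
  have e : algebraMap R K a / algebraMap R K b = algebraMap R K (a * c) := by
    rw [div_eq_iff ((_root_.map_ne_zero_iff _ (IsFractionRing.injective R K)).2 (nonZeroDivisors.ne_zero hb)),
      ← map_mul, mul_assoc, mul_comm c b, hc, mul_one]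
  rw [e] at hg ⊢
  have hac : a * c ≠ 0 := fun h => hg (by rw [h, map_zero])
  obtain ⟨d, hd⟩ := hR.mul_inv_cancel hac
  rw [TameLib.ordFrac_algebraMap hac, Ring.ord_of_isUnit (IsUnit.of_mul_eq_one d hd)]
  rfl

/-- The weighted sum of the orders over the points of the generic fibre vanishes. -/
theorem finsum_over_generic_eq_zero [IsIntegral X] [IsIntegral Y] {δX : X → ℤ} {δY : Y → ℤ}
    (hX : Cyc.IsSetup X δX) (p : X ⟶ Y) [IsProper p] (hδ : Cyc.DeltaCompat p δX δY) {η : Y}
    (hη : η = genericPoint Y) (hpη : p (genericPoint X) = η) (hn : δX (genericPoint X) = δY η + 1)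
    {ξ : X} (hξ : ξ = genericPoint X) (φ : X.presheaf.stalk ξ) (hφ : X.residue ξ φ ≠ 0) :
    ∑ᶠ x ∈ p ⁻¹' {η}, Cyc.divFun δX ξ (X.residue ξ φ) x *
      ((AlgebraicCycle.mapCoeff p δX δY x : ℕ) : ℤ) = 0 := by
  classical
  haveI := hX.1
  let C := p.fiber η
  let ι := p.fiberι η
  let c := p.fiberToSpecResidueField η
  haveI : Flat (Y.fromSpecResidueField η) := flat_fromSpecResidueField_generic hη
  haveI : Flat ι := inferInstanceAs (Flat (Limits.pullback.fst p (Y.fromSpecResidueField η)))
  have hbij : ∀ z, Function.Bijective (ι.stalkMap z).hom := stalkMap_bijective_of_flat ι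
  haveI hred : ∀ z : C, _root_.IsReduced (C.presheaf.stalk z) := fun z =>
    isReduced_of_injective (RingEquiv.ofBijective _ (hbij z)).symm.toRingHom (RingEquiv.injective _)
  haveI : IsReduced C := isReduced_of_isReduced_stalk C
  have hrange : Set.range ι = p ⁻¹' {η} := p.range_fiberι η
  obtain ⟨w, hw⟩ : genericPoint X ∈ Set.range ι := hrange ▸ hpη
  have hwspec : ∀ z : C, w ⤳ z := fun z =>
    ι.isEmbedding.isInducing.specializes_iff.1 (by rw [hw]; exact genericPoint_specializes _)
  haveI : IrreducibleSpace C := by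
    haveI : Nonempty C := ⟨w⟩
    haveI : PreirreducibleSpace C := ⟨by
      have h : IsPreirreducible (closure ({w} : Set C)) := isPreirreducible_singleton.closure
      rwa [show closure ({w} : Set C) = Set.univ from Set.eq_univ_of_forall fun z =>
        specializes_iff_mem_closure.1 (hwspec z)] at h⟩
    exact ⟨‹_›⟩
  haveI : IsIntegral C := isIntegral_of_irreducibleSpace_of_isReduced C
  have hwgen : w = genericPoint C := (genericPoint_spec C).eq (show IsGenericPoint w Set.univ from
    Set.eq_univ_of_forall fun z => specializes_iff_mem_closure.1 (hwspec z)) |>.symm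
  have hgc : ι (genericPoint C) = genericPoint X := hwgen ▸ hw
  subst hξ
  revert φ
  rw [← hgc]
  intro φ hφ
  have hover : ∀ z : C, p (ι z) = η := fun z => (hrange ▸ Set.mem_range_self z : ι z ∈ p ⁻¹' {η})
  have hlow : ∀ z : C, δY η ≤ δX (ι z) := fun z => by
    obtain ⟨n, -, hn'⟩ := hδ (ι z)
    rw [hover] at hn'
    omega
  have hlt : ∀ a b : C, a ⤳ b → a ≠ b → δX (ι b) < δX (ι a) := fun a b hab hne =>
    (hX.2.2 _ _ (hab.map ι.continuous) (fun h => hne (ι.isEmbedding.injective h))).1
  have hgenv : δX (ι (genericPoint C)) = δY η + 1 := by rw [hgc, hn]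
  have hval : ∀ z : C, z ≠ genericPoint C → δX (ι z) = δY η := fun z hz => by
    have := hlt _ z (genericPoint_specializes z) (Ne.symm hz)
    have := hlow z
    omega
  have hcl : ∀ z : C, z ≠ genericPoint C → IsClosed ({z} : Set C) := fun z hz =>
    isClosed_of_closure_subset fun w' hw' => by
      by_contra hne
      have := hlt z w' (specializes_iff_mem_closure.2 hw') (Ne.symm hne)
      have := hlow w'
      have := hval z hz
      omega
  have hdimC : topologicalKrullDim C ≤ 1 := by
    refine Order.krullDim_le_one_iff.2 fun T => ?_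
    by_contra hT
    simp only [not_or, not_isMin_iff, not_isMax_iff] at hT
    obtain ⟨⟨T₁, h₁⟩, ⟨T₂, h₂⟩⟩ := hT
    have key : ∀ A B : TopologicalSpace.IrreducibleCloseds C, A < B →
        δX (ι A.isIrreducible.genericPoint) < δX (ι B.isIrreducible.genericPoint) := fun A B hAB => by
      refine hlt _ _ ?_ fun he => hAB.ne ?_
      · rw [specializes_iff_mem_closure, B.isIrreducible.closure_genericPoint B.isClosed]
        have hmem : A.isIrreducible.genericPoint ∈ (A : Set C) :=
          (A.isIrreducible.isGenericPoint_genericPoint A.isClosed).mem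
        exact hAB.le hmem
      · exact TopologicalSpace.IrreducibleCloseds.ext (by
          rw [← A.isIrreducible.closure_genericPoint A.isClosed, ← B.isIrreducible.closure_genericPoint B.isClosed, he])
    have := key _ _ h₁
    have := key _ _ h₂
    have := hlow T₁.isIrreducible.genericPoint
    have hle : ∀ z : C, δX (ι z) ≤ δY η + 1 := fun z => by
      by_cases hz : z = genericPoint C
      · rw [hz, hgenv]
      · rw [hval z hz]; omega
    have := hle T₂.isIrreducible.genericPoint
    omega
  -- the curve over the residue field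
  letI : C.Over (Spec (CommRingCat.of (Y.residueField η))) := ⟨c⟩
  haveI : IsProper c := inferInstanceAs (IsProper (Limits.pullback.snd p (Y.fromSpecResidueField η)))
  haveI : IsProper (C ↘ Spec (CommRingCat.of (Y.residueField η))) := ‹IsProper c›
  haveI : LocallyOfFiniteType c := inferInstance
  haveI : IsLocallyNoetherian C := LocallyOfFiniteType.isLocallyNoetherian c
  let g : C.functionField := ι.stalkMap (genericPoint C) φ
  have hg : g ≠ 0 := fun h0 => hφ (by
    rw [(map_eq_zero_iff (ι.stalkMap (genericPoint C)).hom (hbij _).1).1 h0, map_zero])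
  have key := finsum_deg_ord_eq_zero (k := Y.residueField η) hdimC g hg
  rw [← hrange, finsum_mem_range ι.isEmbedding.injective]
  refine Eq.trans (finsum_congr fun z => ?_) key
  have hdeg : p.residueDegree (ι z) = (C ↘ Spec (CommRingCat.of (Y.residueField η))).residueDegree z := by
    have h1 := residueDegree_comp ι p z
    have h2 := residueDegree_comp c (Y.fromSpecResidueField η) z
    rw [residueDegree_eq_one_of_preimmersion ι, one_mul] at h1
    rw [residueDegree_eq_one_of_preimmersion (Y.fromSpecResidueField η), mul_one] at h2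
    have h3 : ∀ (q₁ q₂ : C ⟶ Y), q₁ = q₂ → q₁.residueDegree z = q₂.residueDegree z := by
      rintro q _ rfl; rfl
    exact h1.symm.trans ((h3 _ _ Limits.pullback.condition).trans h2)
  haveI : Ring.KrullDimLE 1 (C.presheaf.stalk z) := CurveAmpLib.krullDimLE_stalk hdimC z
  rw [finsum_eq_if]
  by_cases hz : z = genericPoint C
  · have h0 : AlgebraicCycle.mapCoeff p δX δY (ι z) = 0 := by
      rw [AlgebraicCycle.mapCoeff, if_neg]
      show ¬ δX (ι z) = δY (p (ι z))
      rw [hover, hz, hgenv]
      omega
    rw [h0, Nat.cast_zero, mul_zero]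
    split_ifs
    · rw [ordFrac_eq_zero_of_isField (by subst hz; exact Field.toIsField C.functionField) hg, mul_zero]
    · rfl
  · have hm : AlgebraicCycle.mapCoeff p δX δY (ι z) = p.residueDegree (ι z) := by
      rw [AlgebraicCycle.mapCoeff, if_pos]
      show δX (ι z) = δY (p (ι z))
      rw [hover, hval z hz]
    have hsp : ι (genericPoint C) ⤳ ι z := (genericPoint_specializes z).map ι.continuous
    obtain ⟨m, hm'⟩ := EquidimLib.exists_dimBetween_eq_nat hsp
    have hm1 := CycLimLib.delta_eq_add hX hsp hm'
    rw [hgenv, hval z hz] at hm1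
    rw [if_pos (hcl z hz), hm, Cyc.divFun, dif_pos ⟨hsp, by rw [hgenv, hval z hz]⟩,
      ordAt_eq_ordFrac_of_bijective ι hbij hgc z hsp (by rw [hm', show m = 1 by omega, Nat.cast_one]) ‹_› φ hφ,
      hdeg, mul_comm]

theorem map_divFun_eq_zero [IsIntegral X] [IsIntegral Y] {δX : X → ℤ} {δY : Y → ℤ}
    (hX : Cyc.IsSetup X δX) (hY : Cyc.IsSetup Y δY)
    (p : X ⟶ Y) [IsProper p] (hδ : Cyc.DeltaCompat p δX δY) (hdom : p (genericPoint X) = genericPoint Y)
    (hn : δX (genericPoint X) ≠ δY (genericPoint Y)) (f : X.residueField (genericPoint X)) (hf : f ≠ 0)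
    (α : AlgebraicCycle X ℤ) (hα : ⇑α = Cyc.divFun δX (genericPoint X) f) :
    AlgebraicCycle.map p δX δY α = 0 := by
  classical
  obtain ⟨n, -, hn'⟩ := hδ (genericPoint X)
  rw [hdom] at hn'
  refine DFunLike.ext _ _ fun y => ?_
  show ∑ᶠ x ∈ p ⁻¹' {y}, α x * ((AlgebraicCycle.mapCoeff p δX δY x : ℕ) : ℤ) = 0
  by_cases hy : y = genericPoint Y ∧ n = 1
  · obtain ⟨φ, rfl⟩ := X.residue_surjective _ f
    rw [hα, hy.1]
    exact finsum_over_generic_eq_zero hX p hδ rfl hdom (by omega) rfl φ hf
  · refine finsum_mem_eq_zero_of_forall_eq_zero fun x hx => ?_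
    have hxy : p.base x = y := hx
    rw [hα, Cyc.divFun, AlgebraicCycle.mapCoeff]
    split_ifs with h1 h2
    · exfalso
      rw [hxy] at h2
      by_cases he : y = genericPoint Y
      · subst he
        exact hy ⟨rfl, by omega⟩
      · have := (hY.2.2 _ y (genericPoint_specializes y) (Ne.symm he)).1
        omega
    all_goals simp

end CycPushLib

end
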