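import Mathlib
import Groth.Prelude.Def_Cyc
import Groth.Agent.CycDivLib.Ord
import Groth.Agent.CycDivLib.Pull
import Groth.Agent.CycPushLib.Push
import Groth.Agent.CycPushLib.Vanish
import Groth.Agent.CatLib.More
import Groth.Agent.CycLimLib.Dim
import Groth.Agent.DevissLib.ClosedImm
import Groth.Agent.AlgSpLib.TrdegInv
import Groth.Agent.S1862

/-!
# Principal divisors and closed immersions
-/

set_option autoImplicit false
set_option linter.style.haveILetI false
set_option linter.unusedSectionVars false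

universe u

open AlgebraicGeometry CategoryTheory

noncomputable section

namespace CycPushLib

open CycDivLib (gpull)

variable {X Y W : Scheme.{u}}

theorem residueFieldMap_bijective (i : W ⟶ X) [IsPreimmersion i] (w : W) :
    Function.Bijective (i.residueFieldMap w).hom := by
  refine ⟨RingHom.injective _, fun z => ?_⟩
  obtain ⟨a, rfl⟩ := W.residue_surjective w z
  obtain ⟨b, rfl⟩ := i.stalkMap_surjective w a
  exact ⟨X.residue (i w) b, congrArg (fun φ : X.presheaf.stalk (i w) ⟶ W.residueField w => φ b)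
    (Scheme.residue_residueFieldMap i w)⟩

theorem trdeg_preimmersion_left (i : W ⟶ X) [IsPreimmersion i] (w : W) : Dual3.resTrdeg i w = 0 := by
  unfold Dual3.resTrdeg
  letI := (i.residueFieldMap w).hom.toAlgebra
  haveI : Module.Finite (X.residueField (i w)) (W.residueField w) :=
    Module.Finite.of_surjective (Algebra.linearMap (X.residueField (i w)) (W.residueField w))
      (residueFieldMap_bijective i w).2
  exact trdeg_eq_zero

/-- The restriction of a dimension function to a closed subscheme. -/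
theorem setup_of_closedImmersion (i : W ⟶ X) [IsPreimmersion i] [LocallyOfFiniteType i] {δ : X → ℤ} (hX : Cyc.IsSetup X δ) :
    Cyc.IsSetup W (fun w => δ (i w)) ∧ Cyc.DeltaCompat i (fun w => δ (i w)) δ := by
  haveI := hX.1
  have hd : Cyc.DeltaCompat i (fun w => δ (i w)) δ := fun w =>
    ⟨0, (trdeg_preimmersion_left i w).trans Nat.cast_zero.symm, by simp⟩
  refine ⟨⟨LocallyOfFiniteType.isLocallyNoetherian i, fun w => ?_, CycLimLib.isDimFun_of_deltaCompat i hX hd⟩, hd⟩
  letI := (i.stalkMap w).hom.toAlgebra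
  haveI : Algebra.FiniteType (X.presheaf.stalk (i w)) (W.presheaf.stalk w) :=
    RingHom.FiniteType.of_surjective _ (i.stalkMap_surjective w)
  exact CatLib.isUniversallyCatenary_of_finiteType (X.presheaf.stalk (i w)) (W.presheaf.stalk w) (hX.2.1 (i w))

theorem gpull_congr {f g : W ⟶ X} (h : f = g) {w : W} {x : X} (hf : f w = x) (hg : g w = x) (z : X.residueField x) :
    gpull f hf z = gpull g hg z := by
  subst h
  rfl

theorem gpull_rfl (f : W ⟶ X) (w : W) (z : X.residueField (f w)) : gpull f rfl z = f.residueFieldMap w z := by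
  simp [gpull]

theorem gpull_comp (f : W ⟶ X) (g : X ⟶ Y) {w : W} {y : Y} (h : g (f w) = y) (h' : (f ≫ g) w = y)
    (z : Y.residueField y) : gpull (f ≫ g) h' z = f.residueFieldMap w (gpull g h z) := by
  subst h
  rw [gpull_rfl]
  exact (gpull_rfl (f ≫ g) w z).trans (congrArg (fun φ => φ.hom z) (Scheme.residueFieldMap_comp f g w))

theorem residueDegree_congr {f g : W ⟶ X} (h : f = g) (w : W) : f.residueDegree w = g.residueDegree w := by
  subst h; rfl

/-- Lengths of quotients along a surjection. -/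
theorem length_quot_map_surjective {R S : Type u} [CommRing R] [CommRing S] (π : R →+* S)
    (hπ : Function.Surjective π) (I : Ideal R) (hI : RingHom.ker π ≤ I) :
    Module.length S (S ⧸ I.map π) = Module.length R (R ⧸ I) := by
  letI := π.toAlgebra
  rw [← Module.length_eq_of_surjective (R := S) (S := R) (M := S ⧸ I.map π) hπ]
  let ψ : R →ₗ[R] S ⧸ I.map π := ((Ideal.Quotient.mkₐ R (I.map π)).comp (Algebra.ofId R S)).toLinearMap
  have hk : LinearMap.ker ψ = I := by
    ext r
    show Ideal.Quotient.mk (I.map π) (π r) = 0 ↔ _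
    rw [Ideal.Quotient.eq_zero_iff_mem]
    refine ⟨fun h => ?_, fun h => Ideal.mem_map_of_mem _ h⟩
    have h' : r ∈ (I.map π).comap π := h
    rwa [Ideal.comap_map_of_surjective' π hπ, sup_eq_left.2 hI] at h'
  exact ((Submodule.quotEquivOfEq _ _ hk.symm).trans (LinearMap.quotKerEquivOfSurjective ψ
    (Ideal.Quotient.mk_surjective.comp hπ))).length_eq.symm

theorem ordAt_closedImmersion (i : W ⟶ X) [IsPreimmersion i] [IsLocallyNoetherian X] [IsLocallyNoetherian W]
    {ζ w : W} (h : ζ ⤳ w) (h' : i ζ ⤳ i w) (hd : EquidimLib.dimBetween (i ζ) (i w) ≤ 1)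
    (hd' : EquidimLib.dimBetween ζ w ≤ 1) {g : X.residueField (i ζ)} (hg : g ≠ 0) :
    Cyc.ordAt (i w) (i ζ) h' g = Cyc.ordAt w ζ h (i.residueFieldMap ζ g) := by
  obtain ⟨a, b, hb, rfl⟩ := CycDivLib.exists_div h' g
  have ha : Cyc.specMap (i w) (i ζ) h' a ≠ 0 := fun h0 => hg (by rw [h0, zero_div])
  have hspec : ∀ c, i.residueFieldMap ζ (Cyc.specMap (i w) (i ζ) h' c) = Cyc.specMap w ζ h (i.stalkMap w c) :=
    fun c => (gpull_rfl i ζ _).symm.trans (CycDivLib.gpull_specMap i rfl h' h c)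
  have hne : ∀ c, Cyc.specMap (i w) (i ζ) h' c ≠ 0 → Cyc.specMap w ζ h (i.stalkMap w c) ≠ 0 := fun c hc => by
    rw [← hspec]
    exact (_root_.map_ne_zero _).2 hc
  have hlen : ∀ c, Cyc.specMap (i w) (i ζ) h' c ≠ 0 →
      Cyc.ordAt (i w) (i ζ) h' (Cyc.specMap (i w) (i ζ) h' c) =
        Cyc.ordAt w ζ h (Cyc.specMap w ζ h (i.stalkMap w c)) := fun c hc => by
    rw [CycDivLib.ordAt_specMap h' hd hc, CycDivLib.ordAt_specMap h hd' (hne c hc)]
    have hP : (CycDivLib.primeOf h').asIdeal = (CycDivLib.primeOf h).asIdeal.comap (i.stalkMap w).hom := by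
      ext r
      rw [Ideal.mem_comap, ← CycDivLib.specMap_eq_zero_iff h', ← CycDivLib.specMap_eq_zero_iff h, ← hspec]
      exact ⟨fun e => by rw [e, map_zero], fun e => (_root_.map_eq_zero _).1 e⟩
    rw [← length_quot_map_surjective (i.stalkMap w).hom (i.stalkMap_surjective w) _
      (le_sup_of_le_left (hP ▸ Ideal.ker_le_comap _)), Ideal.map_sup, Ideal.map_span, Set.image_singleton, hP,
      Ideal.map_comap_of_surjective _ (i.stalkMap_surjective w)]
  rw [CycDivLib.ordAt_div h' hd ha hb, map_div₀, hspec, hspec, CycDivLib.ordAt_div h hd' (hne a ha) (hne b hb),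
    hlen a ha, hlen b hb]

theorem dimBetween_le_one_of_drop {δ : X → ℤ} (hX : Cyc.IsSetup X δ) {a b : X} (hab : a ⤳ b)
    (h : δ b + 1 = δ a) : EquidimLib.dimBetween a b ≤ 1 := by
  haveI := hX.1
  obtain ⟨n, hn⟩ := EquidimLib.exists_dimBetween_eq_nat hab
  have := CycLimLib.delta_eq_add hX hab hn
  rw [hn, show n = 1 by omega, Nat.cast_one]

theorem divFun_closedImmersion (i : W ⟶ X) [IsPreimmersion i] [LocallyOfFiniteType i] {δ : X → ℤ} (hX : Cyc.IsSetup X δ)
    {ξ : X} {ζ : W} (e : i ζ = ξ) {g : X.residueField ξ} (hg : g ≠ 0) (w : W) :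
    Cyc.divFun δ ξ g (i w) = Cyc.divFun (fun w => δ (i w)) ζ (gpull i e g) w := by
  subst e
  haveI := hX.1
  have hW := (setup_of_closedImmersion i hX).1
  haveI := hW.1
  simp only [Cyc.divFun, gpull_rfl]
  have hiff : ζ ⤳ w ↔ i ζ ⤳ i w := i.isEmbedding.isInducing.specializes_iff.symm
  by_cases h : i ζ ⤳ i w ∧ δ (i w) + 1 = δ (i ζ)
  · rw [dif_pos h, dif_pos ⟨hiff.2 h.1, h.2⟩]
    exact ordAt_closedImmersion i (hiff.2 h.1) h.1 (dimBetween_le_one_of_drop hX h.1 h.2)
      (dimBetween_le_one_of_drop hW (hiff.2 h.1) h.2) hg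
  · rw [dif_neg h, dif_neg fun h' => h ⟨hiff.1 h'.1, h'.2⟩]

/-- The support of a principal divisor is locally finite. -/
theorem finite_divFun_support {δ : X → ℤ} (hX : Cyc.IsSetup X δ) (ξ : X) {g : X.residueField ξ} (hg : g ≠ 0)
    {V : X.Opens} (hV : IsAffineOpen V) : {x : X | x ∈ V ∧ Cyc.divFun δ ξ g x ≠ 0}.Finite := by
  classical
  haveI := hX.1
  by_cases hξ : ξ ∈ V
  swap
  · refine Set.finite_empty.subset fun x hx => hx.2 ?_
    rw [Cyc.divFun, dif_neg fun h => hξ (h.1.mem_open V.isOpen hx.1)]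
  haveI : IsNoetherianRing Γ(X, V) := IsLocallyNoetherian.component_noetherian ⟨V, hV⟩
  letI := X.presheaf.algebra_section_stalk (⟨ξ, hξ⟩ : V)
  haveI := hV.isLocalization_stalk ⟨ξ, hξ⟩
  obtain ⟨φ, rfl⟩ := X.residue_surjective ξ g
  obtain ⟨a, s, rfl⟩ := IsLocalization.exists_mk'_eq (hV.primeIdealOf ⟨ξ, hξ⟩).asIdeal.primeCompl φ
  let P := (hV.primeIdealOf ⟨ξ, hξ⟩).asIdeal
  let ev := (X.evaluation V ξ hξ).hom
  have hfac : X.residue ξ (IsLocalization.mk' (X.presheaf.stalk ξ) a s) * ev s = ev a := by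
    show _ * X.residue ξ (algebraMap Γ(X, V) (X.presheaf.stalk ξ) s) = X.residue ξ (algebraMap Γ(X, V) (X.presheaf.stalk ξ) a)
    rw [← map_mul, IsLocalization.mk'_spec]
  have hmemP : ∀ r : Γ(X, V), ev r = 0 ↔ r ∈ P := fun r =>
    (IsLocalRing.residue_eq_zero_iff _).trans (IsLocalization.AtPrime.to_map_mem_maximal_iff (X.presheaf.stalk ξ) P r)
  have hes : ev s ≠ 0 := fun h => s.2 ((hmemP _).1 h)
  have hea : ev a ≠ 0 := fun h => mul_ne_zero hg hes (hfac.trans h)
  let I₁ := P ⊔ Ideal.span {a}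
  let I₂ := P ⊔ Ideal.span {(s : Γ(X, V))}
  refine Set.Finite.of_injOn (f := fun x => if h : x ∈ V then (hV.primeIdealOf ⟨x, h⟩).asIdeal else ⊤)
    (t := I₁.minimalPrimes ∪ I₂.minimalPrimes) ?_ ?_
    ((Ideal.finite_minimalPrimes_of_isNoetherianRing _ I₁).union (Ideal.finite_minimalPrimes_of_isNoetherianRing _ I₂))
  swap
  · intro x hx y hy hxy
    simp only [dif_pos hx.1, dif_pos hy.1] at hxy
    have := congrArg hV.fromSpec.base (PrimeSpectrum.ext hxy : hV.primeIdealOf ⟨x, hx.1⟩ = hV.primeIdealOf ⟨y, hy.1⟩)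
    simpa only [hV.fromSpec_primeIdealOf] using this
  rintro x ⟨hxV, hx⟩
  rw [Cyc.divFun] at hx
  split at hx
  swap
  · exact absurd rfl hx
  rename_i h
  simp only [dif_pos hxV]
  have hd := dimBetween_le_one_of_drop hX h.1 h.2
  let Q := hV.primeIdealOf ⟨x, hxV⟩
  have hPQ : P ≤ Q.asIdeal := (PrimeSpectrum.le_iff_specializes (hV.primeIdealOf ⟨ξ, hξ⟩) Q).2
    (hV.fromSpec.isOpenEmbedding.isInducing.specializes_iff.1
      (by rw [hV.fromSpec_primeIdealOf, hV.fromSpec_primeIdealOf]; exact h.1))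
  have hmin : ∀ r : Γ(X, V), r ∈ Q.asIdeal → r ∉ P → Q.asIdeal ∈ (P ⊔ Ideal.span {r}).minimalPrimes := by
    intro r hr hrP
    refine ⟨⟨Q.2, sup_le hPQ ((Ideal.span_singleton_le_iff_mem _).2 hr)⟩, fun J hJ hle => ?_⟩
    let q : PrimeSpectrum Γ(X, V) := ⟨J, hJ.1⟩
    have h1 : ξ ⤳ hV.fromSpec q := by
      have := ((PrimeSpectrum.le_iff_specializes (hV.primeIdealOf ⟨ξ, hξ⟩) q).1
        (le_sup_left.trans hJ.2)).map hV.fromSpec.continuous
      rwa [hV.fromSpec_primeIdealOf] at this
    have h2 : hV.fromSpec q ⤳ x := by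
      have := ((PrimeSpectrum.le_iff_specializes q Q).1 hle).map hV.fromSpec.continuous
      rwa [hV.fromSpec_primeIdealOf] at this
    have h3 : hV.fromSpec q ≠ ξ := fun he => hrP (by
      rw [show P = q.asIdeal from congrArg PrimeSpectrum.asIdeal (hV.fromSpec.isOpenEmbedding.injective
        ((hV.fromSpec_primeIdealOf _).trans he.symm))]
      exact hJ.2 (Ideal.mem_sup_right (Ideal.mem_span_singleton_self r)))
    have h4 : hV.fromSpec q = x := by
      by_contra hne
      have := (hX.2.2 _ _ h1 (Ne.symm h3)).1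
      have := (hX.2.2 _ _ h2 hne).1
      omega
    exact (congrArg PrimeSpectrum.asIdeal (hV.fromSpec.isOpenEmbedding.injective
      (h4.trans (hV.fromSpec_primeIdealOf ⟨x, hxV⟩).symm))).ge
  by_cases ha : a ∈ Q.asIdeal
  · exact Or.inl (hmin a ha fun h => hea ((hmemP _).2 h))
  by_cases hs : (s : Γ(X, V)) ∈ Q.asIdeal
  · exact Or.inr (hmin _ hs fun h => hes ((hmemP _).2 h))
  exfalso
  apply hx
  letI := X.presheaf.algebra_section_stalk (⟨x, hxV⟩ : V)
  haveI := hV.isLocalization_stalk ⟨x, hxV⟩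
  have hz : ∀ r : Γ(X, V), r ∉ Q.asIdeal → ev r ≠ 0 → Cyc.ordAt x ξ h.1 (ev r) = 0 := by
    intro r hr hne
    show Cyc.ordAt x ξ h.1 (X.evaluation V ξ hξ r) = 0
    rw [← specMap_germ h.1 hxV hξ, CycDivLib.ordAt_specMap h.1 hd (by rw [specMap_germ h.1 hxV hξ]; exact hne)]
    have hu : IsUnit (X.presheaf.germ V x hxV r) := IsLocalization.map_units (X.presheaf.stalk x) (⟨r, hr⟩ : Q.asIdeal.primeCompl)
    haveI : Subsingleton (X.presheaf.stalk x ⧸ (CycDivLib.primeOf h.1).asIdeal ⊔ Ideal.span {X.presheaf.germ V x hxV r}) :=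
      Ideal.Quotient.subsingleton_iff.2 (by rw [Ideal.span_singleton_eq_top.2 hu, sup_top_eq])
    rw [Module.length_eq_zero]
    rfl
  have := CycDivLib.ordAt_mul h.1 hd hg hes
  rw [hfac, hz a ha hea, hz s hs hes, add_zero] at this
  exact this.symm

/-- A principal divisor as a cycle. -/
def divCyc {δ : X → ℤ} (hX : Cyc.IsSetup X δ) (ξ : X) {g : X.residueField ξ} (hg : g ≠ 0) : AlgebraicCycle X ℤ where
  toFun := Cyc.divFun δ ξ g
  supportWithinDomain' := by simp
  supportLocallyFiniteWithinDomain' x _ := by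
    obtain ⟨V, hV, hxV, -⟩ := exists_isAffineOpen_mem_and_subset (X := X) (x := x) (U := ⊤) trivial
    exact ⟨V, V.isOpen.mem_nhds hxV, (finite_divFun_support hX ξ hg hV).subset fun z hz => ⟨hz.1, hz.2⟩⟩

/-- A morphism from a reduced scheme whose image lies in a closed subscheme factors through it. -/
theorem ker_le_ker_of_range_subset {W Z X : Scheme.{u}} (j : Z ⟶ X) [IsClosedImmersion j]
    (g : W ⟶ X) [IsReduced W] (h : Set.range g ⊆ Set.range j) : j.ker ≤ g.ker := by
  let S : TopologicalSpace.Closeds X := ⟨Set.range j, j.isClosedEmbedding.isClosed_range⟩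
  refine le_trans (Scheme.IdealSheafData.le_support_iff_le_vanishingIdeal.mp
    (fun x hx ↦ ?_ : S ≤ j.ker.support)) ?_
  · show x ∈ (j.ker.support : Set X)
    rw [Scheme.Hom.support_ker]
    exact subset_closure hx
  refine Scheme.IdealSheafData.le_ofIdeals_iff.2 fun U s hs => ?_
  rw [Scheme.IdealSheafData.vanishingIdeal_ideal, PrimeSpectrum.mem_vanishingIdeal] at hs
  rw [RingHom.mem_ker]
  refine eq_zero_of_basicOpen_eq_bot _ (eq_bot_iff.2 fun w hw => ?_)
  exfalso
  rw [← Scheme.preimage_basicOpen] at hw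
  have hwU : g w ∈ U.1 := X.basicOpen_le s hw
  let p := U.2.primeIdealOf ⟨g w, hwU⟩
  have hp : U.2.fromSpec p = g w := U.2.fromSpec_primeIdealOf ⟨g w, hwU⟩
  have hsp := hs p (by change U.2.fromSpec p ∈ (S : Set X); rw [hp]; exact h ⟨w, rfl⟩)
  have : p ∈ U.2.fromSpec ⁻¹ᵁ X.basicOpen s := by
    change U.2.fromSpec p ∈ X.basicOpen s
    rw [hp]; exact hw
  rw [U.2.fromSpec_preimage_basicOpen] at this
  exact this hsp

theorem gpull_bijective (f : W ⟶ X) [IsPreimmersion f] {w : W} {x : X} (h : f w = x) :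
    Function.Bijective (gpull f h).hom := by
  subst h
  rw [show ⇑(gpull f (rfl : f w = f w)).hom = ⇑(f.residueFieldMap w).hom from funext (gpull_rfl f w)]
  exact residueFieldMap_bijective f w

/-- Norms in a square whose horizontal maps are preimmersions. -/
theorem normGen_square {Z : Scheme.{u}} (q : W ⟶ Z) (i : W ⟶ X) (j : Z ⟶ Y) (p : X ⟶ Y) [IsPreimmersion i]
    [IsPreimmersion j] (h : q ≫ j = i ≫ p) (w : W) (e : j (q w) = p (i w)) (f : X.residueField (i w)) :
    gpull j e (Cyc.normGen p (i w) f) = Cyc.normGen q w (i.residueFieldMap w f) := by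
  letI := (p.residueFieldMap (i w)).hom.toAlgebra
  letI := (q.residueFieldMap w).hom.toAlgebra
  let e₁ := RingEquiv.ofBijective _ (gpull_bijective j e)
  let e₂ := RingEquiv.ofBijective _ (residueFieldMap_bijective i w)
  have hn := Algebra.norm_eq_of_equiv_equiv e₁ e₂ (RingHom.ext fun a => by
    show q.residueFieldMap w (gpull j e a) = i.residueFieldMap w (p.residueFieldMap (i w) a)
    rw [← gpull_comp q j e e, gpull_congr h e rfl, gpull_comp i p rfl rfl, gpull_rfl]) f
  exact (congrArg e₁ hn).trans (e₁.apply_symm_apply _)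

/-- Pushforward of the principal divisor of a point. -/
theorem pushSum_divFun {δX : X → ℤ} {δY : Y → ℤ} (hX : Cyc.IsSetup X δX) (hY : Cyc.IsSetup Y δY) (p : X ⟶ Y)
    [IsProper p] (hδ : Cyc.DeltaCompat p δX δY) (ξ : X) {f : X.residueField ξ} (hf : f ≠ 0) (y : Y) :
    ∑ᶠ x ∈ p ⁻¹' {y}, Cyc.divFun δX ξ f x * ((AlgebraicCycle.mapCoeff p δX δY x : ℕ) : ℤ) =
      if δY (p ξ) = δX ξ then Cyc.divFun δY (p ξ) (Cyc.normGen p ξ f) y else 0 := by
  classical
  haveI := hX.1
  haveI := hY.1
  by_cases hy : p ξ ⤳ y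
  swap
  · rw [finsum_mem_eq_zero_of_forall_eq_zero fun x hx => ?_]
    · split_ifs
      · rw [Cyc.divFun, dif_neg fun h => hy h.1]
      · rfl
    · rw [Cyc.divFun, dif_neg fun h => hy ((h.1.map p.continuous).trans (specializes_of_eq hx)), zero_mul]
  obtain ⟨W, iW, _, _, hW⟩ := DevissLib.exists_integral_closed (T := closure ({ξ} : Set X)) isClosed_closure
    isIrreducible_singleton.closure
  obtain ⟨Z, jZ, _, _, hZ⟩ := DevissLib.exists_integral_closed (T := closure ({p ξ} : Set Y)) isClosed_closure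
    isIrreducible_singleton.closure
  have hgW : iW (genericPoint W) = ξ := by
    refine (((genericPoint_spec W).image iW.continuous).eq ?_)
    show closure _ = closure _
    rw [Set.image_univ, hW, closure_closure]
  have hgZ : jZ (genericPoint Z) = p ξ := by
    refine (((genericPoint_spec Z).image jZ.continuous).eq ?_)
    show closure _ = closure _
    rw [Set.image_univ, hZ, closure_closure]
  have hrg : Set.range (iW ≫ p) ⊆ Set.range jZ := by
    rintro _ ⟨w, rfl⟩
    rw [hZ]
    exact specializes_iff_mem_closure.1 ((specializes_iff_mem_closure.2 (hW ▸ Set.mem_range_self w)).map p.continuous)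
  let q := IsClosedImmersion.lift jZ (iW ≫ p) (ker_le_ker_of_range_subset jZ _ hrg)
  have hq : q ≫ jZ = iW ≫ p := IsClosedImmersion.lift_fac jZ _ _
  haveI : IsProper (q ≫ jZ) := by rw [hq]; infer_instance
  haveI : IsProper q := IsProper.of_comp q jZ
  have hqp : ∀ w, jZ (q w) = p (iW w) := fun w => congrArg (fun g : W ⟶ Y => g w) hq
  obtain ⟨hsW, -⟩ := setup_of_closedImmersion iW hX
  obtain ⟨hsZ, -⟩ := setup_of_closedImmersion jZ hY
  have hδq : Cyc.DeltaCompat q (fun w => δX (iW w)) (fun z => δY (jZ z)) := fun w => by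
    obtain ⟨n, hn, hn'⟩ := hδ (iW w)
    refine ⟨n, ?_, by show δX (iW w) = δY (jZ (q w)) + n; rw [hqp]; exact hn'⟩
    have h1 := AlgSpLib.resTrdeg_comp q jZ w
    rw [hq, AlgSpLib.resTrdeg_comp iW p w, trdeg_preimmersion_left iW, trdeg_preimmersion_left jZ, add_zero, zero_add] at h1
    exact h1.symm.trans hn
  have hqgen : q (genericPoint W) = genericPoint Z :=
    jZ.isEmbedding.injective (by rw [hqp, hgW, hgZ])
  obtain ⟨z, rfl⟩ : y ∈ Set.range jZ := hZ ▸ specializes_iff_mem_closure.1 hy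
  subst hgW
  let f' := iW.residueFieldMap (genericPoint W) f
  have hf' : f' ≠ 0 := (_root_.map_ne_zero _).2 hf
  let α := divCyc hsW (genericPoint W) hf'
  let δW : W → ℤ := fun w => δX (iW w)
  let δZ : Z → ℤ := fun z => δY (jZ z)
  have hLHS : ∑ᶠ x ∈ p ⁻¹' {jZ z}, Cyc.divFun δX (iW (genericPoint W)) f x *
      ((AlgebraicCycle.mapCoeff p δX δY x : ℕ) : ℤ) = AlgebraicCycle.map q δW δZ α z := by
    show _ = ∑ᶠ w ∈ q ⁻¹' {z}, α w * ((AlgebraicCycle.mapCoeff q δW δZ w : ℕ) : ℤ)
    rw [finsum_mem_inter_support_eq' _ (p ⁻¹' {jZ z}) (iW '' (q ⁻¹' {z})) (fun x hx => ?_),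
      finsum_mem_image iW.isEmbedding.injective.injOn]
    · refine finsum_mem_congr rfl fun w hw => ?_
      rw [divFun_closedImmersion iW hX rfl hf w, gpull_rfl]
      congr 1
      rw [Nat.cast_inj, AlgebraicCycle.mapCoeff, AlgebraicCycle.mapCoeff]
      have hd : (iW ≫ p).residueDegree w = (q ≫ jZ).residueDegree w := residueDegree_congr hq.symm w
      rw [residueDegree_comp, residueDegree_comp, residueDegree_eq_one_of_preimmersion iW,
        residueDegree_eq_one_of_preimmersion jZ, one_mul, mul_one] at hd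
      show (if δX (iW w) = δY (p (iW w)) then p.residueDegree (iW w) else 0) =
        if δX (iW w) = δY (jZ (q w)) then q.residueDegree w else 0
      rw [hd, hqp]
    · have hne : Cyc.divFun δX (iW (genericPoint W)) f x ≠ 0 := left_ne_zero_of_mul hx
      rw [Cyc.divFun] at hne
      split at hne
      swap
      · exact absurd rfl hne
      rename_i hh
      obtain ⟨w, rfl⟩ : x ∈ Set.range iW := hW ▸ specializes_iff_mem_closure.1 hh.1
      rw [iW.isEmbedding.injective.mem_set_image]
      show p (iW w) = jZ z ↔ q w = z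
      rw [← hqp]
      exact jZ.isEmbedding.injective.eq_iff
  rw [hLHS]
  have hcond : δY (p (iW (genericPoint W))) = δX (iW (genericPoint W)) ↔ δW (genericPoint W) = δZ (genericPoint Z) := by
    show _ ↔ δX (iW (genericPoint W)) = δY (jZ (genericPoint Z))
    rw [hgZ, eq_comm]
  split_ifs with hc
  · have e : jZ (q (genericPoint W)) = p (iW (genericPoint W)) := hqp _
    have hfd : (q.residueFieldMap (genericPoint W)).hom.Finite := by
      rcases Groth.Agent.S1862.result W Z δW δZ hsW hsZ q hδq (hcond.1 hc) with h | h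
      · refine absurd ?_ h
        rw [dense_iff_closure_eq]
        apply Set.eq_univ_of_univ_subset
        rw [← (genericPoint_spec Z).def, ← hqgen]
        exact closure_mono (Set.singleton_subset_iff.2 ⟨_, rfl⟩)
      · exact h.2
    have hN : Cyc.normGen p (iW (genericPoint W)) f ≠ 0 := fun h0 => by
      have h1 := normGen_square q iW jZ p hq (genericPoint W) e f
      rw [h0, map_zero] at h1
      letI := (q.residueFieldMap (genericPoint W)).hom.toAlgebra
      haveI : Module.Finite (Z.residueField (q (genericPoint W))) (W.residueField (genericPoint W)) := hfd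
      exact Algebra.norm_ne_zero_iff.2 hf' h1.symm
    rw [map_divFun_eq_divFun_norm hsW hsZ q hδq hqgen (hcond.1 hc) f' hf' α rfl,
      divFun_closedImmersion jZ hY e hN z, normGen_square q iW jZ p hq (genericPoint W) e f]
  · rw [map_divFun_eq_zero hsW hsZ q hδq hqgen (fun h => hc (hcond.2 h)) f' hf' α rfl]
    rfl

end CycPushLib

end
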