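import Mathlib
import Groth.Prelude.Def_Cyc
import Groth.Agent.CycPushLib.Closed

/-!
# Proper pushforward preserves rational equivalence
-/

set_option autoImplicit false
set_option linter.style.haveILetI false

universe u

open AlgebraicGeometry CategoryTheory

noncomputable section

namespace CycPushLib

variable {X Y : Scheme.{u}}

theorem finite_of_delta_eq {δX : X → ℤ} {δY : Y → ℤ} (p : X ⟶ Y) [LocallyOfFiniteType p]
    (hδ : Cyc.DeltaCompat p δX δY) {ξ : X} (h : δY (p ξ) = δX ξ) : (p.residueFieldMap ξ).hom.Finite := by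
  obtain ⟨n, hn, hn'⟩ := hδ ξ
  letI := (p.residueFieldMap ξ).hom.toAlgebra
  have hn0 : n = 0 := by omega
  haveI : Algebra.IsAlgebraic (Y.residueField (p ξ)) (X.residueField ξ) :=
    trdeg_eq_zero_iff.mp (by simpa [hn0] using hn)
  have hres : (X.residue ξ).hom.EssFiniteType :=
    RingHom.FiniteType.essFiniteType (RingHom.FiniteType.of_surjective _ (X.residue_surjective _))
  have h2 : ((p.residueFieldMap ξ).hom.comp (Y.residue (p ξ)).hom).EssFiniteType := by
    have h := congrArg CommRingCat.Hom.hom (Scheme.residue_residueFieldMap p ξ)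
    rw [CommRingCat.hom_comp, CommRingCat.hom_comp] at h
    rw [h]
    exact RingHom.EssFiniteType.stableUnderComposition _ _ (LocallyOfFiniteType.stalkMap p _) hres
  haveI : Algebra.EssFiniteType (Y.residueField (p ξ)) (X.residueField ξ) := RingHom.EssFiniteType.of_comp _ h2
  exact Algebra.finite_of_essFiniteType_of_isAlgebraic

theorem normGen_ne_zero {δX : X → ℤ} {δY : Y → ℤ} (p : X ⟶ Y) [LocallyOfFiniteType p]
    (hδ : Cyc.DeltaCompat p δX δY) {ξ : X} (h : δY (p ξ) = δX ξ) {f : X.residueField ξ} (hf : f ≠ 0) :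
    Cyc.normGen p ξ f ≠ 0 := by
  have hfin := finite_of_delta_eq p hδ h
  letI := (p.residueFieldMap ξ).hom.toAlgebra
  haveI : Module.Finite (Y.residueField (p ξ)) (X.residueField ξ) := hfin
  exact Algebra.norm_ne_zero_iff.2 hf

theorem ratEquiv_map {δX : X → ℤ} {δY : Y → ℤ} (hX : Cyc.IsSetup X δX) (hY : Cyc.IsSetup Y δY) (p : X ⟶ Y)
    [IsProper p] (hδ : Cyc.DeltaCompat p δX δY) {k : ℤ} {α β : AlgebraicCycle X ℤ}
    (h : Cyc.RatEquiv δX k α β) :
    Cyc.RatEquiv δY k (AlgebraicCycle.map p δX δY α) (AlgebraicCycle.map p δX δY β) := by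
  classical
  obtain ⟨ι, ξ, f, hξk, hf, hlf, hsum⟩ := h
  let I' := {i : ι // δY (p (ξ i)) = δX (ξ i)}
  have hcpt : ∀ K : Set X, IsCompact K → {i | (closure {ξ i} ∩ K).Nonempty}.Finite := fun K hK => by
    choose U hUo hxU hUf using hlf
    obtain ⟨t, ht⟩ := hK.elim_finite_subcover U hUo fun x _ => Set.mem_iUnion.2 ⟨x, hxU x⟩
    refine (t.finite_toSet.biUnion fun x _ => hUf x).subset ?_
    rintro i ⟨x, hx, hxK⟩
    obtain ⟨z, hz, hxz⟩ := Set.mem_iUnion₂.1 (ht hxK)
    exact Set.mem_biUnion hz ⟨x, hx, hxz⟩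
  refine ⟨I', fun i => p (ξ i.1), fun i => Cyc.normGen p (ξ i.1) (f i.1), fun i => i.2.trans (hξk i.1),
    fun i => normGen_ne_zero p hδ i.2 (hf i.1), fun y => ?_, fun y => ?_⟩
  · obtain ⟨V, hV, hyV, -⟩ := exists_isAffineOpen_mem_and_subset (X := Y) (x := y) (U := ⊤) trivial
    refine ⟨(V : Set Y), V.isOpen, hyV, ((hcpt _ (QuasiCompact.isCompact_preimage (f := p) _ V.isOpen hV.isCompact)).preimage
      Subtype.val_injective.injOn).subset ?_⟩
    rintro i ⟨z, hz, hzV⟩
    exact ⟨ξ i.1, subset_closure rfl, (specializes_iff_mem_closure.2 hz).mem_open V.isOpen hzV⟩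
  obtain ⟨V, hV, hyV, -⟩ := exists_isAffineOpen_mem_and_subset (X := Y) (x := y) (U := ⊤) trivial
  let K : Set X := p ⁻¹' (V : Set Y)
  have hK : IsCompact K := QuasiCompact.isCompact_preimage (f := p) _ V.isOpen hV.isCompact
  let I := (hcpt K hK).toFinset
  let d : ι → X → ℤ := fun i => Cyc.divFun δX (ξ i) (f i)
  let c : X → ℤ := fun x => ((AlgebraicCycle.mapCoeff p δX δY x : ℕ) : ℤ)
  let S : Set X := K ∩ (Function.support α ∪ Function.support β ∪ ⋃ i ∈ I, Function.support (d i))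
  have hS : S.Finite := by
    have h1 : ∀ D : AlgebraicCycle X ℤ, (K ∩ Function.support D).Finite := fun D =>
      LocallyFiniteSupport.finite_inter_support_of_isCompact (Function.locallyFinsupp.locallyFiniteSupport D) hK
    have h2 : (⋃ i ∈ I, K ∩ Function.support (d i)).Finite :=
      I.finite_toSet.biUnion fun i _ => h1 (divCyc hX (ξ i) (hf i))
    refine (((h1 α).union (h1 β)).union h2).subset ?_
    rintro x ⟨hxK, (hx | hx) | hx⟩
    · exact Or.inl (Or.inl ⟨hxK, hx⟩)
    · exact Or.inl (Or.inr ⟨hxK, hx⟩)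
    · obtain ⟨i, hi, hx⟩ := Set.mem_iUnion₂.1 hx
      exact Or.inr (Set.mem_biUnion hi ⟨hxK, hx⟩)
  let T : Finset X := hS.toFinset.filter (fun x => p x = y)
  have hmem : ∀ x, p x = y → x ∈ K := fun x hx => by show p x ∈ V; rw [hx]; exact hyV
  have hT : ∀ (D : X → ℤ), (∀ x, x ∈ K → D x ≠ 0 → x ∈ S) →
      ∑ᶠ x ∈ p ⁻¹' {y}, D x * c x = ∑ x ∈ T, D x * c x := fun D hD => by
    refine finsum_mem_eq_sum_of_inter_support_eq _ ?_
    ext x
    simp only [Set.mem_inter_iff, Set.mem_preimage, Set.mem_singleton_iff, Function.mem_support, T,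
      Finset.coe_filter, Set.mem_setOf_eq, hS.mem_toFinset]
    exact ⟨fun hx => ⟨⟨hD x (hmem x hx.1) (left_ne_zero_of_mul hx.2), hx.1⟩, hx.2⟩,
      fun hx => ⟨hx.1.2, hx.2⟩⟩
  have hdi : ∀ x ∈ T, (α - β) x = ∑ i ∈ I, d i x := fun x hx => by
    rw [hsum x]
    refine finsum_eq_sum_of_support_subset _ fun i hi => ?_
    rw [Finset.mem_coe, Set.Finite.mem_toFinset]
    by_contra hni
    refine hi ?_
    show Cyc.divFun δX (ξ i) (f i) x = 0
    rw [Cyc.divFun, dif_neg fun hh => hni ⟨x, specializes_iff_mem_closure.1 hh.1, hmem x (Finset.mem_filter.1 hx).2⟩]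
  show (∑ᶠ x ∈ p ⁻¹' {y}, α x * c x) - (∑ᶠ x ∈ p ⁻¹' {y}, β x * c x) = _
  rw [hT α fun x hx h => ⟨hx, Or.inl (Or.inl h)⟩, hT β fun x hx h => ⟨hx, Or.inl (Or.inr h)⟩,
    ← Finset.sum_sub_distrib]
  calc ∑ x ∈ T, (α x * c x - β x * c x) = ∑ x ∈ T, (∑ i ∈ I, d i x) * c x := by
        refine Finset.sum_congr rfl fun x hx => ?_
        rw [← hdi x hx, ← sub_mul]
        rfl
    _ = ∑ i ∈ I, ∑ x ∈ T, d i x * c x := by simp only [Finset.sum_mul]; exact Finset.sum_comm
    _ = ∑ i ∈ I, if δY (p (ξ i)) = δX (ξ i) then Cyc.divFun δY (p (ξ i)) (Cyc.normGen p (ξ i) (f i)) y else 0 := by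
        refine Finset.sum_congr rfl fun i hi => ?_
        rw [← hT (d i) fun x hx h => ⟨hx, Or.inr (Set.mem_biUnion hi h)⟩]
        exact pushSum_divFun hX hY p hδ (ξ i) (hf i) y
    _ = _ := by
        rw [← Finset.sum_filter]
        rw [finsum_eq_sum_of_support_subset _ (s := (I.filter fun i => δY (p (ξ i)) = δX (ξ i)).subtype
          fun i => δY (p (ξ i)) = δX (ξ i)) fun i hi => ?_]
        · rw [Finset.sum_subtype_eq_sum_filter (fun i => Cyc.divFun δY (p (ξ i)) (Cyc.normGen p (ξ i) (f i)) y)]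
          rw [Finset.filter_filter]
          simp only [and_self]
        · have hne : Cyc.divFun δY (p (ξ i.1)) (Cyc.normGen p (ξ i.1) (f i.1)) y ≠ 0 := hi
          rw [Cyc.divFun] at hne
          split at hne
          swap
          · exact absurd rfl hne
          rename_i hh
          rw [Finset.mem_coe, Finset.mem_subtype, Finset.mem_filter, Set.Finite.mem_toFinset]
          exact ⟨⟨ξ i.1, subset_closure rfl, hh.1.mem_open V.isOpen hyV⟩, i.2⟩

end CycPushLib

end
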