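import Mathlib
import Groth.Prelude.Def_Cyc
import Groth.Agent.CycPushLib.Local

/-!
# Lengths along a finite morphism
-/

set_option autoImplicit false
set_option linter.style.haveILetI false
set_option linter.unusedSectionVars false

universe u

open AlgebraicGeometry CategoryTheory IsLocalRing
open scoped TensorProduct

noncomputable section

namespace CycPushLib

variable {X Y : Scheme.{u}} (p : X ⟶ Y) {V : Y.Opens} (hV : IsAffineOpen V) (hU : IsAffineOpen (p ⁻¹ᵁ V))
  {y : Y} (hy : y ∈ V)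

/-- The maximal ideals of the semilocal ring over a point are the points of the fibre. -/
theorem exists_semilocal_fibre [Algebra Γ(Y, V) Γ(X, p ⁻¹ᵁ V)]
    (hcomm : ∀ a, algebraMap Γ(Y, V) Γ(X, p ⁻¹ᵁ V) a = p.app V a)
    (A : Type u) [CommRing A] [Algebra Γ(Y, V) A] [IsLocalization.AtPrime A (hV.primeIdealOf ⟨y, hy⟩).asIdeal]
    [IsLocalRing A] (B : Type u) [CommRing B] [Algebra Γ(X, p ⁻¹ᵁ V) B]
    [IsLocalization (Algebra.algebraMapSubmonoid Γ(X, p ⁻¹ᵁ V) (hV.primeIdealOf ⟨y, hy⟩).asIdeal.primeCompl) B]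
    [Algebra A B] [Algebra Γ(Y, V) B] [IsScalarTower Γ(Y, V) A B]
    [IsScalarTower Γ(Y, V) Γ(X, p ⁻¹ᵁ V) B] [Module.Finite A B] :
    ∃ e : MaximalSpectrum B → X, Function.Injective e ∧ Set.range e = p ⁻¹' {y} ∧
      ∀ q : MaximalSpectrum B, ∃ h : e q ∈ p ⁻¹ᵁ V,
        IsLocalization.AtPrime (Localization.AtPrime q.asIdeal) (hU.primeIdealOf ⟨e q, h⟩).asIdeal ∧
        p.residueDegree (e q) = TameLib.deg A q := by
  let A₀ := Γ(Y, V)
  let U := p ⁻¹ᵁ V
  let B₀ := Γ(X, U)
  let 𝔭 := (hV.primeIdealOf ⟨y, hy⟩).asIdeal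
  let M := Algebra.algebraMapSubmonoid B₀ 𝔭.primeCompl
  let e : MaximalSpectrum B → X := fun q => hU.fromSpec (primeBelow (B₀ := B₀) B q)
  have halg : algebraMap A₀ B₀ = (p.app V).hom := RingHom.ext hcomm
  have hover : ∀ r : PrimeSpectrum B₀,
      p (hU.fromSpec r) = hV.fromSpec (PrimeSpectrum.comap (algebraMap A₀ B₀) r) := fun r => by
    have := congrArg (fun g => g r) (IsAffineOpen.SpecMap_appLE_fromSpec p hV hU (le_refl (p ⁻¹ᵁ V)))
    simp only [← Scheme.Hom.app_eq_appLE] at this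
    rw [halg]
    exact this.symm
  have hbelow := range_primeBelow (B₀ := B₀) 𝔭 A B
  have hey : ∀ q, p (e q) = y := fun q => by
    have h : (primeBelow (B₀ := B₀) B q).asIdeal.comap (algebraMap A₀ B₀) = 𝔭 := hbelow.le ⟨q, rfl⟩
    rw [hover, show PrimeSpectrum.comap (algebraMap A₀ B₀) (primeBelow (B₀ := B₀) B q) = hV.primeIdealOf ⟨y, hy⟩
      from PrimeSpectrum.ext h, hV.fromSpec_primeIdealOf]
  refine ⟨e, hU.fromSpec.isOpenEmbedding.injective.comp (primeBelow_injective (B₀ := B₀) 𝔭 B),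
    Set.Subset.antisymm (Set.range_subset_iff.2 fun q => hey q) (fun x hx => ?_), fun q => ?_⟩
  · have hxU : x ∈ U := by show p x ∈ V; rw [show p x = y from hx]; exact hy
    have hr : PrimeSpectrum.comap (algebraMap A₀ B₀) (hU.primeIdealOf ⟨x, hxU⟩) = hV.primeIdealOf ⟨y, hy⟩ := by
      apply hV.fromSpec.isOpenEmbedding.injective
      rw [← hover, hU.fromSpec_primeIdealOf, hV.fromSpec_primeIdealOf]
      exact hx
    obtain ⟨q, hq⟩ := hbelow.ge (congrArg PrimeSpectrum.asIdeal hr :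
      (hU.primeIdealOf ⟨x, hxU⟩).asIdeal.comap (algebraMap A₀ B₀) = 𝔭)
    refine ⟨q, ?_⟩
    show hU.fromSpec (primeBelow (B₀ := B₀) B q) = x
    rw [hq, hU.fromSpec_primeIdealOf]
  haveI := q.isMaximal
  have hxU : e q ∈ U := by show p (e q) ∈ V; rw [hey]; exact hy
  have hxV : p (e q) ∈ V := hxU
  have h1 : hU.primeIdealOf ⟨e q, hxU⟩ = primeBelow (B₀ := B₀) B q :=
    hU.fromSpec.isOpenEmbedding.injective (hU.fromSpec_primeIdealOf _)
  have h2 : hV.primeIdealOf ⟨p (e q), hxV⟩ = hV.primeIdealOf ⟨y, hy⟩ := by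
    congr 1
    exact Subtype.ext (hey q)
  haveI : IsLocalization.AtPrime A (hV.primeIdealOf ⟨p (e q), hxV⟩).asIdeal := by
    have h : ∀ r, r = hV.primeIdealOf ⟨y, hy⟩ → IsLocalization.AtPrime A r.asIdeal := by
      rintro _ rfl
      infer_instance
    exact h _ h2
  haveI hloc : IsLocalization.AtPrime (Localization.AtPrime q.asIdeal) (hU.primeIdealOf ⟨e q, hxU⟩).asIdeal := by
    have h : ∀ r, r = primeBelow (B₀ := B₀) B q → IsLocalization.AtPrime (Localization.AtPrime q.asIdeal) r.asIdeal := by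
      rintro _ rfl
      exact IsLocalization.isLocalization_isLocalization_atPrime_isLocalization M
        (Localization.AtPrime q.asIdeal) q.asIdeal
    exact h _ h1
  refine ⟨hxU, hloc, residueDegree_eq_finrank p hV (e q) hxV hU (A := A) (C := Localization.AtPrime q.asIdeal) fun a => ?_⟩
  rw [IsScalarTower.algebraMap_apply A B (Localization.AtPrime q.asIdeal), ← IsScalarTower.algebraMap_apply A₀ A B,
    IsScalarTower.algebraMap_apply A₀ B₀ B, ← IsScalarTower.algebraMap_apply B₀ B (Localization.AtPrime q.asIdeal),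
    halg]

/-- The rank of a finite flat morphism is the sum of the degrees times the multiplicities of the fibre. -/
theorem finrank_eq_sum [IsFinite p] [Flat p] (y : Y) [IsNoetherianRing (Y.presheaf.stalk y)] :
    (p ⁻¹' {y}).Finite ∧ (∀ x, p x = y → Module.length (X.presheaf.stalk x)
        (X.presheaf.stalk x ⧸ CycLimLib.fibIdeal p x) ≠ ⊤) ∧
      (p.finrank y : ℤ) = ∑ᶠ x ∈ p ⁻¹' {y}, (p.residueDegree x : ℤ) *
        ((Module.length (X.presheaf.stalk x) (X.presheaf.stalk x ⧸ CycLimLib.fibIdeal p x)).toNat : ℤ) := by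
  classical
  obtain ⟨V, hV, hy, -⟩ := exists_isAffineOpen_mem_and_subset (X := Y) (x := y) (U := ⊤) trivial
  have hU : IsAffineOpen (p ⁻¹ᵁ V) := hV.preimage p
  let A₀ := Γ(Y, V)
  let B₀ := Γ(X, p ⁻¹ᵁ V)
  let φ : A₀ ⟶ B₀ := p.app V
  letI : Algebra A₀ B₀ := φ.hom.toAlgebra
  haveI : Module.Finite A₀ B₀ := IsFinite.finite_app p V hV
  haveI : Module.Flat A₀ B₀ := by
    have h := Flat.flat_appLE p hV hU le_rfl
    rw [← Scheme.Hom.app_eq_appLE] at h
    exact RingHom.flat_algebraMap_iff.1 h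
  let 𝔭 := hV.primeIdealOf ⟨y, hy⟩
  -- the rank
  have hrank : p.finrank y = Module.rankAtStalk B₀ 𝔭 := by
    have hpb : IsPullback hU.fromSpec (Spec.map φ) p hV.fromSpec := by
      refine (IsOpenImmersion.isPullback (Spec.map φ) hU.fromSpec hV.fromSpec p ?_ ?_).flip
      · have h := IsAffineOpen.SpecMap_appLE_fromSpec p hV hU le_rfl
        rw [← Scheme.Hom.app_eq_appLE] at h
        exact h.symm
      · rw [hU.opensRange_fromSpec, hV.opensRange_fromSpec]
    have h := Scheme.Hom.finrank_of_isPullback _ _ _ _ hpb 𝔭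
    rw [hV.fromSpec_primeIdealOf] at h
    rw [← h]
    exact Scheme.Hom.finrank_SpecMap_algebraMap A₀ B₀ 𝔭
  let A := Localization.AtPrime 𝔭.asIdeal
  haveI : IsNoetherianRing A := by
    letI := Y.presheaf.algebra_section_stalk (⟨y, hy⟩ : V)
    haveI := hV.isLocalization_stalk ⟨y, hy⟩
    exact isNoetherianRing_of_ringEquiv (Y.presheaf.stalk y)
      (IsLocalization.algEquiv 𝔭.asIdeal.primeCompl (Y.presheaf.stalk y) A).toRingEquiv
  let M := Algebra.algebraMapSubmonoid B₀ 𝔭.asIdeal.primeCompl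
  let B := Localization M
  letI algAB : Algebra A B := localizationAlgebra 𝔭.asIdeal.primeCompl B₀
  haveI : IsScalarTower A₀ A B := IsScalarTower.of_algebraMap_eq fun a => by
    rw [IsScalarTower.algebraMap_apply A₀ B₀ B]
    exact (IsLocalization.map_eq _ a).symm
  haveI : Module.Finite A B := Module.Finite.of_isLocalization A₀ B₀ 𝔭.asIdeal.primeCompl
  haveI hloc : IsLocalizedModule 𝔭.asIdeal.primeCompl (IsScalarTower.toAlgHom A₀ B₀ B).toLinearMap :=
    isLocalizedModule_iff_isLocalization.2 inferInstance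
  haveI : Module.Flat A B := by
    exact Module.Flat.of_isLocalizedModule A 𝔭.asIdeal.primeCompl (IsScalarTower.toAlgHom A₀ B₀ B).toLinearMap
  haveI : Module.Free A B := Module.free_of_flat_of_isLocalRing
  have hrk : Module.rankAtStalk B₀ 𝔭 = Module.finrank A B := by
    let e₁ : LocalizedModule 𝔭.asIdeal.primeCompl B₀ ≃ₗ[A₀] B :=
      IsLocalizedModule.iso 𝔭.asIdeal.primeCompl (IsScalarTower.toAlgHom A₀ B₀ B).toLinearMap
    exact (LinearEquiv.extendScalarsOfIsLocalization 𝔭.asIdeal.primeCompl A e₁).finrank_eq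
  haveI : Finite (MaximalSpectrum B) := TameLib.finite_maximalSpectrum A
  letI : Fintype (MaximalSpectrum B) := Fintype.ofFinite _
  let J := (maximalIdeal A).map (algebraMap A B)
  have hlen : Module.length A (B ⧸ J) = (Module.finrank A B : ℕ∞) := by
    let κ := ResidueField A
    let e₁ : κ ⊗[A] B ≃ₗ[A] B ⧸ J :=
      (Algebra.TensorProduct.quotIdealMapEquivTensorQuot B (maximalIdeal A)).toLinearEquiv.restrictScalars A
        |>.trans (TensorProduct.comm A _ _) |>.symm
    rw [← e₁.length_eq, Module.length_eq_of_surjective (R := κ) (S := A) IsLocalRing.residue_surjective,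
      Module.length_eq_finrank, Module.finrank_baseChange]
  have hfl : IsFiniteLength B (B ⧸ J) := by
    have h := isFiniteLength_iff_isNoetherian_isArtinian.1 (Module.length_ne_top_iff.1
      (hlen.trans_ne (ENat.coe_ne_top _)))
    haveI := h.1
    haveI := h.2
    exact isFiniteLength_iff_isNoetherian_isArtinian.2 ⟨isNoetherian_of_tower A h.1, isArtinian_of_tower A h.2⟩
  obtain ⟨e, he, hrange, hpt⟩ := exists_semilocal_fibre p hV hU hy (fun _ => rfl) A B
  -- the multiplicities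
  have hm : ∀ q : MaximalSpectrum B, Module.length (Localization.AtPrime q.asIdeal)
      (LocalizedModule q.asIdeal.primeCompl (B ⧸ J)) =
      Module.length (X.presheaf.stalk (e q)) (X.presheaf.stalk (e q) ⧸ CycLimLib.fibIdeal p (e q)) := by
    intro q
    obtain ⟨hxU, hL, -⟩ := hpt q
    have hxy : p (e q) = y := hrange.le ⟨q, rfl⟩
    letI := X.presheaf.algebra_section_stalk (⟨e q, hxU⟩ : (p ⁻¹ᵁ V : X.Opens))
    haveI := hU.isLocalization_stalk ⟨e q, hxU⟩
    haveI := hL
    let g : Localization.AtPrime q.asIdeal ≃ₐ[B₀] X.presheaf.stalk (e q) :=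
      IsLocalization.algEquiv (hU.primeIdealOf ⟨e q, hxU⟩).asIdeal.primeCompl _ _
    rw [TameLib.localizedQuot_length, ← CycDivLib.length_quot_map_ringEquiv g.toRingEquiv]
    let S := X.presheaf.stalk (e q)
    suffices hI : ((J.map (algebraMap B (Localization.AtPrime q.asIdeal))).map g.toRingEquiv.toRingHom) =
        CycLimLib.fibIdeal p (e q) by rw [hI]
    have hxV : p (e q) ∈ V := hxU
    letI := Y.presheaf.algebra_section_stalk (⟨p (e q), hxV⟩ : V)
    haveI := hV.isLocalization_stalk ⟨p (e q), hxV⟩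
    have h2 : hV.primeIdealOf ⟨p (e q), hxV⟩ = 𝔭 := by
      show _ = hV.primeIdealOf _
      congr 1
      exact Subtype.ext hxy
    rw [show J = (𝔭.asIdeal.map (algebraMap A₀ B₀)).map (algebraMap B₀ B) by
      show (maximalIdeal A).map _ = _
      rw [← IsLocalization.AtPrime.map_eq_maximalIdeal 𝔭.asIdeal A, Ideal.map_map, Ideal.map_map,
        ← IsScalarTower.algebraMap_eq, ← IsScalarTower.algebraMap_eq]]
    rw [CycLimLib.fibIdeal, ← IsLocalization.AtPrime.map_eq_maximalIdeal (hV.primeIdealOf ⟨p (e q), hxV⟩).asIdeal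
      (Y.presheaf.stalk (p (e q))), h2, Ideal.map_map, Ideal.map_map, Ideal.map_map, Ideal.map_map]
    refine congrArg (fun χ : A₀ →+* X.presheaf.stalk (e q) => 𝔭.asIdeal.map χ) ?_
    refine RingHom.ext fun a => ?_
    show g (algebraMap B (Localization.AtPrime q.asIdeal) (algebraMap B₀ B (algebraMap A₀ B₀ a))) =
      p.stalkMap (e q) (Y.presheaf.germ V (p (e q)) hxV a)
    rw [← IsScalarTower.algebraMap_apply B₀ B, AlgEquiv.commutes]
    exact (p.germ_stalkMap_apply V (e q) hxV a).symm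
  have hsum := (TameLib.length_eq_sum A (B ⧸ J) hfl).symm.trans hlen
  have hfin : ∀ q : MaximalSpectrum B,
      Module.length (X.presheaf.stalk (e q)) (X.presheaf.stalk (e q) ⧸ CycLimLib.fibIdeal p (e q)) ≠ ⊤ := by
    intro q h
    have h1 := ne_top_of_le_ne_top (hsum.trans_ne (ENat.coe_ne_top _))
      (Finset.single_le_sum (f := fun q : MaximalSpectrum B => (TameLib.deg A q : ℕ∞) *
        Module.length (Localization.AtPrime q.asIdeal) (LocalizedModule q.asIdeal.primeCompl (B ⧸ J)))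
        (fun _ _ => bot_le) (Finset.mem_univ q))
    refine h1 ?_
    rw [hm, h, ENat.mul_top]
    exact_mod_cast (TameLib.deg_pos A q).ne'
  refine ⟨hrange ▸ Set.finite_range e, fun x hx => ?_, ?_⟩
  · obtain ⟨q, rfl⟩ := hrange.ge hx
    exact hfin q
  have hsum' := congrArg (fun t : ℕ∞ => (t.toNat : ℤ)) hsum
  simp only [hm] at hsum'
  rw [ENat.toNat_natCast] at hsum'
  replace hsum' := (CycDivLib.toNat_sum Finset.univ (fun q : MaximalSpectrum B => (TameLib.deg A q : ℕ∞) *
    Module.length (X.presheaf.stalk (e q)) (X.presheaf.stalk (e q) ⧸ CycLimLib.fibIdeal p (e q)))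
    fun q _ => WithTop.mul_ne_top (ENat.natCast_ne_top _) (hfin q)).symm.trans hsum'
  rw [hrank, hrk, ← hsum', ← hrange, finsum_mem_range he, finsum_eq_sum_of_fintype]
  refine Finset.sum_congr rfl fun q _ => ?_
  obtain ⟨-, -, hdeg⟩ := hpt q
  rw [ENat.toNat_mul, ENat.toNat_natCast, Nat.cast_mul, hdeg]

end CycPushLib

end
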