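import Mathlib
import Groth.Prelude.Def_Cyc
import Groth.Agent.CycPushLib.FiniteLen
import Groth.Agent.CycPushLib.Vanish
import Groth.Agent.CycPushLib.Closed
import Groth.Agent.CycPushLib.Proper
import Groth.Agent.S9501

/-!
# Multiplicities in a base change of a generically finite point
-/

set_option autoImplicit false
set_option linter.style.haveILetI false
set_option linter.unusedSectionVars false

universe u

open AlgebraicGeometry CategoryTheory CategoryTheory.Limits IsLocalRing

noncomputable section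

namespace CycPushLib

theorem fibIdeal_spec_field {F : Scheme.{u}} {K : CommRingCat.{u}} (hK : IsField K) (t : F ⟶ Spec K) (w : F) :
    CycLimLib.fibIdeal t w = ⊥ := by
  letI := hK.toField
  let z : PrimeSpectrum K := t w
  have hz : z.asIdeal = ⊥ := Ideal.eq_bot_of_prime z.asIdeal
  let A : CommRingCat.{u} := (Spec.structureSheaf K).presheaf.stalk z
  haveI : IsLocalization.AtPrime A z.asIdeal := StructureSheaf.IsLocalization.to_stalk K z
  haveI : IsLocalRing A := IsLocalization.AtPrime.isLocalRing A z.asIdeal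
  show Ideal.map (t.stalkMap w).hom (maximalIdeal A) = ⊥
  rw [← IsLocalization.AtPrime.map_eq_maximalIdeal z.asIdeal A, hz, Ideal.map_bot, Ideal.map_bot]

variable {X Y X' : Scheme.{u}} (f : Y ⟶ X) (p : X' ⟶ X)

theorem sum_fibre_baseChange [IsLocallyNoetherian X'] {y : Y} {x' : X'} (hy : f y = p x')
    (hfin : (f.residueFieldMap y).hom.Finite) :
    {y' : ↥(pullback f p) | pullback.fst f p y' = y ∧ pullback.snd f p y' = x'}.Finite ∧
    (∀ y', pullback.fst f p y' = y → pullback.snd f p y' = x' → Dual3.resTrdeg (pullback.snd f p) y' = 0) ∧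
    (f.residueDegree y : ℤ) *
        ((Module.length (X'.presheaf.stalk x') (X'.presheaf.stalk x' ⧸ CycLimLib.fibIdeal p x')).toNat : ℤ) =
      ∑ᶠ y' ∈ {y' : ↥(pullback f p) | pullback.fst f p y' = y ∧ pullback.snd f p y' = x'},
        ((pullback.snd f p).residueDegree y' : ℤ) *
          ((Module.length ((pullback f p).presheaf.stalk y')
            ((pullback f p).presheaf.stalk y' ⧸ CycLimLib.fibIdeal (pullback.fst f p) y')).toNat : ℤ) := by
  classical
  let q := pullback.fst f p
  let W := q.fiber y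
  let F := p.fiber (f y)
  let φ : X.residueField (f y) ⟶ Y.residueField y := f.residueFieldMap y
  have hbig : IsPullback (q.fiberι y ≫ pullback.snd f p) (q.fiberToSpecResidueField y) p
      (Y.fromSpecResidueField y ≫ f) :=
    IsPullback.paste_horiz (IsPullback.of_hasPullback q (Y.fromSpecResidueField y))
      (IsPullback.of_hasPullback f p).flip
  have hφ : Spec.map φ ≫ X.fromSpecResidueField (f y) = Y.fromSpecResidueField y ≫ f :=
    Scheme.Hom.SpecMap_residueFieldMap_fromSpecResidueField f y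
  rw [← hφ] at hbig
  have hC : IsPullback (p.fiberι (f y)) (p.fiberToSpecResidueField (f y)) p (X.fromSpecResidueField (f y)) :=
    IsPullback.of_hasPullback _ _
  let h : W ⟶ F := hC.lift (q.fiberι y ≫ pullback.snd f p) (q.fiberToSpecResidueField y ≫ Spec.map φ)
    (by rw [hbig.w]; simp only [Category.assoc])
  have hh1 : h ≫ p.fiberι (f y) = q.fiberι y ≫ pullback.snd f p := hC.lift_fst _ _ _
  have hh2 : h ≫ p.fiberToSpecResidueField (f y) = q.fiberToSpecResidueField y ≫ Spec.map φ := hC.lift_snd _ _ _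
  have hsq : IsPullback h (q.fiberToSpecResidueField y) (p.fiberToSpecResidueField (f y)) (Spec.map φ) :=
    IsPullback.of_right (by rw [hh1]; exact hbig) hh2 hC
  let K := X.residueField (f y)
  let L := Y.residueField y
  letI : Algebra K L := φ.hom.toAlgebra
  haveI : Module.Finite K L := hfin
  haveI : IsFinite (Spec.map φ) := (IsFinite.SpecMap_iff φ).2 hfin
  haveI : Flat (Spec.map φ) := Flat.SpecMap_iff.2 (RingHom.flat_algebraMap_iff.2 (inferInstance : Module.Flat K L))
  haveI : IsFinite h := MorphismProperty.of_isPullback hsq.flip (inferInstance : IsFinite (Spec.map φ))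
  haveI : Flat h := MorphismProperty.of_isPullback hsq.flip (inferInstance : Flat (Spec.map φ))
  -- the point of the fibre
  obtain ⟨ξ, hξ⟩ : x' ∈ Set.range (p.fiberι (f y)) := by
    rw [Scheme.Hom.range_fiberι]
    exact hy.symm
  haveI : IsNoetherianRing (F.presheaf.stalk ξ) :=
    isNoetherianRing_of_surjective _ _ _ (Groth.Agent.S9501.result p (f y) ξ).1
  obtain ⟨hfinW, -, hsum⟩ := finrank_eq_sum h ξ
  have hdeg : h.finrank ξ = f.residueDegree y := by
    have := Scheme.Hom.finrank_of_isPullback _ _ _ _ hsq.flip ξ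
    rw [this, show Spec.map φ = Spec.map (CommRingCat.ofHom (algebraMap K L)) from rfl,
      Scheme.Hom.finrank_SpecMap_algebraMap, Module.rankAtStalk_eq_finrank_of_free]
    rfl
  let ι := q.fiberι y
  have hS : {y' : ↥(pullback f p) | q y' = y ∧ pullback.snd f p y' = x'} = ι '' (h ⁻¹' {ξ}) := by
    ext y'
    constructor
    · rintro ⟨h1, h2⟩
      obtain ⟨w, hw⟩ : y' ∈ Set.range ι := by
        rw [Scheme.Hom.range_fiberι]
        exact h1
      subst hw
      refine ⟨w, (p.fiberι (f y)).isEmbedding.injective ?_, rfl⟩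
      rw [hξ, ← Scheme.Hom.comp_apply, hh1]
      exact h2
    · rintro ⟨w, hw, rfl⟩
      have hr : ι w ∈ q ⁻¹' {y} := (Scheme.Hom.range_fiberι q y).le ⟨w, rfl⟩
      refine ⟨hr, ?_⟩
      show pullback.snd f p (ι w) = x'
      rw [← Scheme.Hom.comp_apply, ← hh1, Scheme.Hom.comp_apply, show h w = ξ from hw, hξ]
  have hinj : Set.InjOn (ι : W → ↥(pullback f p)) (h ⁻¹' {ξ}) := ι.isEmbedding.injective.injOn
  refine ⟨?_, fun y' h1 h2 => ?_, ?_⟩
  · show {y' : ↥(pullback f p) | q y' = y ∧ pullback.snd f p y' = x'}.Finite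
    rw [hS]
    exact hfinW.image _
  · obtain ⟨w, -, rfl⟩ : y' ∈ ι '' (h ⁻¹' {ξ}) := hS ▸ (⟨h1, h2⟩ : q y' = y ∧ _)
    have e1 := AlgSpLib.resTrdeg_comp ι (pullback.snd f p) w
    rw [show ι ≫ pullback.snd f p = h ≫ p.fiberι (f y) from hh1.symm, AlgSpLib.resTrdeg_comp h (p.fiberι (f y)) w,
      trdeg_preimmersion_left ι, trdeg_preimmersion_left (p.fiberι (f y))] at e1
    simp only [zero_add, add_zero] at e1
    refine e1.symm.trans ?_
    unfold Dual3.resTrdeg
    letI := (h.residueFieldMap w).hom.toAlgebra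
    haveI : Module.Finite (F.residueField (h w)) (W.residueField w) := WeightLib.finite_residueFieldMap h w
    exact trdeg_eq_zero
  show _ = ∑ᶠ y' ∈ {y' : ↥(pullback f p) | q y' = y ∧ pullback.snd f p y' = x'}, _
  rw [hS, finsum_mem_image hinj, ← hdeg, hsum, finsum_mem_mul]
  refine finsum_mem_congr rfl fun w hw => ?_
  have hwξ : h w = ξ := hw
  subst hwξ
  have hd : (pullback.snd f p).residueDegree (ι w) = h.residueDegree w := by
    have h1 := residueDegree_comp ι (pullback.snd f p) w
    rw [residueDegree_congr hh1.symm, residueDegree_comp h (p.fiberι (f y)) w,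
      residueDegree_eq_one_of_preimmersion ι, residueDegree_eq_one_of_preimmersion (p.fiberι (f y)), one_mul, mul_one] at h1
    exact h1.symm
  have hlen : ∀ {Z S : Scheme.{u}} (g : Z ⟶ S) (s : S) (z : g.fiber s),
      Module.length (Z.presheaf.stalk (g.fiberι s z)) (Z.presheaf.stalk (g.fiberι s z) ⧸ CycLimLib.fibIdeal g (g.fiberι s z)) =
        Module.length ((g.fiber s).presheaf.stalk z)
          ((g.fiber s).presheaf.stalk z ⧸ CycLimLib.fibIdeal (g.fiberToSpecResidueField s) z) := by
    intro Z S g s z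
    obtain ⟨hs, hk⟩ := Groth.Agent.S9501.result g s z
    rw [fibIdeal_spec_field (Field.toIsField _), ← length_quot_map_surjective _ hs _ hk.le]
    refine (Submodule.quotEquivOfEq _ _ ?_).length_eq
    rw [Ideal.map_eq_bot_iff_le_ker]
    exact hk.ge
  have hcomp := CycLimLib.length_fibIdeal_comp h (p.fiberToSpecResidueField (f y)) w
  rw [fibIdeal_spec_field (Field.toIsField _),
    ← fibIdeal_spec_field (Field.toIsField _) (q.fiberToSpecResidueField y) w, ← hlen q y w, ← hlen p (f y) (h w)] at hcomp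
  show _ = ((pullback.snd f p).residueDegree (ι w) : ℤ) *
    ((Module.length _ (_ ⧸ CycLimLib.fibIdeal q (q.fiberι y w))).toNat : ℤ)
  rw [hd, hcomp, ENat.toNat_mul, Nat.cast_mul, mul_assoc, mul_comm (_ : ℤ) ((Module.length (X'.presheaf.stalk x') _).toNat : ℤ)]
  refine congrArg (_ * ·) (congrArg (· * _) ?_)
  subst hξ
  rfl

/-- Flat base change commutes with proper pushforward of cycles. -/
theorem pullFun_map_baseChange [IsProper f] [Flat p] {δ : X → ℤ} {δ' : X' → ℤ} {δY : Y → ℤ}
    {δY' : ↥(pullback f p) → ℤ} (hX' : Cyc.IsSetup X' δ') (hf : Cyc.DeltaCompat f δY δ)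
    (hf' : Cyc.DeltaCompat (pullback.snd f p) δY' δ') {c : ℤ}
    (hc : ∀ x', CycLimLib.IsGen p x' → δ' x' = δ (p x') + c) (α : AlgebraicCycle Y ℤ)
    (α' : AlgebraicCycle (pullback f p : Scheme.{u}) ℤ)
    (hα' : ⇑α' = Cyc.pullFun (pullback.fst f p) δY' δY c ⇑α) :
    Cyc.pullFun p δ' δ c ⇑(AlgebraicCycle.map f δY δ α) = ⇑(AlgebraicCycle.map (pullback.snd f p) δY' δ' α') := by
  classical
  haveI := hX'.1
  funext x'
  let q := pullback.fst f p
  let snd := pullback.snd f p
  let z := p x'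
  have hsq : ∀ y' : ↥(pullback f p), f (q y') = p (snd y') := fun y' =>
    congrArg (fun g : (pullback f p : Scheme.{u}) ⟶ X => g y') pullback.condition
  have hrhs : (AlgebraicCycle.map snd δY' δ' α') x' = ∑ᶠ y' ∈ snd ⁻¹' {x'},
      Cyc.pullFun q δY' δY c ⇑α y' * ((AlgebraicCycle.mapCoeff snd δY' δ' y' : ℕ) : ℤ) := by
    show ∑ᶠ y' ∈ snd ⁻¹' {x'}, α' y' * _ = _
    rw [hα']
  rw [hrhs]
  have hδf : ∀ y, δ (f y) ≤ δY y := fun y => by
    obtain ⟨n, -, hn⟩ := hf y
    omega
  by_cases hgen : δ' x' = δ z + c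
  swap
  · have hlt : δ' x' < δ z + c := lt_of_le_of_ne (CycDivLib.delta_le_of_gen p hX' hc x').1 hgen
    rw [Cyc.pullFun, if_neg hgen]
    refine (finsum_mem_eq_zero_of_forall_eq_zero fun y' hy' => ?_).symm
    simp only [Cyc.pullFun, AlgebraicCycle.mapCoeff]
    split_ifs with h1 h2
    · have h3 : snd y' = x' := hy'
      have h4 := hsq y'
      rw [h3] at h4
      have h5 := hδf (q y')
      rw [h4] at h5
      change δY' y' = δ' (snd y') at h2
      rw [h3] at h2
      change δ' x' < δ (p x') + c at hlt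
      omega
    · rw [Nat.cast_zero, mul_zero]
    all_goals rw [zero_mul]
  obtain ⟨V, hV, hzV, -⟩ := exists_isAffineOpen_mem_and_subset (X := X) (x := z) (U := ⊤) trivial
  have hK : IsCompact (f ⁻¹' (V : Set X)) := QuasiCompact.isCompact_preimage (f := f) _ V.isOpen hV.isCompact
  have hA : {y : Y | f y = z ∧ α y ≠ 0 ∧ δY y = δ z}.Finite :=
    (LocallyFiniteSupport.finite_inter_support_of_isCompact
      (Function.locallyFinsupp.locallyFiniteSupport α) hK).subset
      fun y hy => ⟨by show f y ∈ V; rw [hy.1]; exact hzV, hy.2.1⟩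
  let S := hA.toFinset
  have hS : ∀ y ∈ S, f y = z ∧ α y ≠ 0 ∧ δY y = δ z := fun y hy => hA.mem_toFinset.1 hy
  have hbc : ∀ y : S, _ := fun y => sum_fibre_baseChange f p (x' := x') (hS y.1 y.2).1
    (finite_of_delta_eq f hf (by rw [(hS y.1 y.2).1]; exact (hS y.1 y.2).2.2.symm))
  let T := Finset.univ.biUnion fun y : S => (hbc y).1.toFinset
  have hcond : ∀ y : S, ∀ y' ∈ (hbc y).1.toFinset,
      δY' y' = δY (q y') + c ∧ δY' y' = δ' (snd y') := by
    intro y y' hy'
    obtain ⟨h1, h2⟩ := (hbc y).1.mem_toFinset.1 hy'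
    obtain ⟨n, hn, hn'⟩ := hf' y'
    have h0 := (hbc y).2.1 y' h1 h2
    unfold Dual3.resTrdeg at h0
    rw [h0, eq_comm, Nat.cast_eq_zero] at hn
    have h3 := (hS y.1 y.2).2.2
    change snd y' = x' at h2
    change q y' = y.1 at h1
    change δY' y' = δ' (snd y') + n at hn'
    rw [h1, h2] at *
    omega
  rw [finsum_mem_eq_sum_of_subset (t := T) _ (fun y' hy' => ?_) (fun y' hy' => ?_)]
  rotate_left
  · obtain ⟨h1, h2⟩ := hy'
    have h3 : snd y' = x' := h1
    simp only [Function.mem_support, Cyc.pullFun, AlgebraicCycle.mapCoeff] at h2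
    split_ifs at h2 with h4 h5
    · change δY' y' = δ' (snd y') at h5
      rw [h3] at h5
      have hyS : q y' ∈ S := hA.mem_toFinset.2 ⟨(hsq y').trans (congrArg p h3),
        left_ne_zero_of_mul (left_ne_zero_of_mul h2), by omega⟩
      exact Finset.mem_coe.2 (Finset.mem_biUnion.2 ⟨⟨_, hyS⟩, Finset.mem_univ _, (hbc _).1.mem_toFinset.2 ⟨rfl, h3⟩⟩)
    · exact absurd (by rw [Nat.cast_zero, mul_zero]) h2
    all_goals exact absurd (by rw [zero_mul]) h2
  · obtain ⟨y, -, hy⟩ := Finset.mem_biUnion.1 (Finset.mem_coe.1 hy')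
    exact ((hbc y).1.mem_toFinset.1 hy).2
  rw [Finset.sum_biUnion]
  swap
  · intro a _ b _ hab
    exact Finset.disjoint_left.2 fun y' ha hb => hab (Subtype.ext
      (((hbc a).1.mem_toFinset.1 ha).1.symm.trans ((hbc b).1.mem_toFinset.1 hb).1))
  rw [Cyc.pullFun, if_pos hgen]
  have hmap : (AlgebraicCycle.map f δY δ α) z = ∑ y ∈ S, α y * (f.residueDegree y : ℤ) := by
    show ∑ᶠ y ∈ f ⁻¹' {z}, α y * ((AlgebraicCycle.mapCoeff f δY δ y : ℕ) : ℤ) = _
    refine (finsum_mem_eq_sum_of_subset (s := f ⁻¹' {z}) (t := S) _ (fun y hy => ?_)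
      (fun y hy => (hS y (Finset.mem_coe.1 hy)).1)).trans ?_
    rotate_left
    · refine Finset.sum_congr rfl fun y hy => ?_
      rw [AlgebraicCycle.mapCoeff, if_pos (show δY y = δ (f y) by rw [(hS y hy).1]; exact (hS y hy).2.2)]
    · obtain ⟨h1, h2⟩ := hy
      simp only [Function.mem_support, AlgebraicCycle.mapCoeff] at h2
      split_ifs at h2 with h3
      · exact Finset.mem_coe.2 (hA.mem_toFinset.2 ⟨h1, left_ne_zero_of_mul h2,
          h3.trans (congrArg δ (h1 : f y = z))⟩)
      · exact absurd (by rw [Nat.cast_zero, mul_zero]) h2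
  rw [hmap, Finset.sum_mul, ← Finset.sum_coe_sort S]
  refine Finset.sum_congr rfl fun y _ => ?_
  rw [mul_assoc]
  refine ((congrArg (α y.1 * ·) ((hbc y).2.2.trans (finsum_mem_eq_finite_toFinset_sum _ (hbc y).1))).trans
    (Finset.mul_sum _ _ _)).trans (Finset.sum_congr rfl fun y' hy' => ?_)
  have hqy : q y' = y.1 := ((hbc y).1.mem_toFinset.1 hy').1
  simp only [Cyc.pullFun]
  rw [AlgebraicCycle.mapCoeff, if_pos (hcond y y' hy').2, if_pos (hcond y y' hy').1]
  show α y.1 * (_ * _) = α (q y') * _ * _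
  rw [show α (q y') = α y.1 from congrArg α hqy]
  ring

end CycPushLib

end
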