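import Mathlib
import Groth.Prelude.Def_Cyc
import Groth.Agent.CycPushLib.Closed

/-!
# Extending rational equivalences from an open subscheme
-/

set_option autoImplicit false
set_option linter.style.haveILetI false

universe u

open AlgebraicGeometry CategoryTheory

noncomputable section

namespace CycPushLib

variable {X : Scheme.{u}}

theorem exists_supported_on_complement {δ : X → ℤ} (hX : Cyc.IsSetup X δ) (U : X.Opens) {k : ℤ}
    {α β : AlgebraicCycle X ℤ} (hα : α ∈ Cyc.Zk X δ k) (hβ : β ∈ Cyc.Zk X δ k)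
    {αU βU : AlgebraicCycle (↑U : Scheme.{u}) ℤ} (hαU : ∀ u : ↥U, αU u = α (U.ι u)) (hβU : ∀ u : ↥U, βU u = β (U.ι u))
    (h : Cyc.RatEquiv (fun u : ↥U => δ (U.ι u)) k αU βU) :
    ∃ γ : AlgebraicCycle X ℤ, γ ∈ Cyc.Zk X δ k ∧ (∀ x : X, x ∈ U → γ x = 0) ∧ Cyc.RatEquiv δ k α (β + γ) := by
  classical
  haveI := hX.1
  obtain ⟨I, ξ, g, hξk, hg, hlf, hsum⟩ := h
  have hb : ∀ i, Function.Bijective (U.ι.residueFieldMap (ξ i)).hom := fun i => residueFieldMap_bijective U.ι (ξ i)
  choose g' hg' using fun i => (hb i).2 (g i)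
  have hg0 : ∀ i, g' i ≠ 0 := fun i h0 => hg i (by rw [← hg' i, h0, map_zero])
  let ζ : I → X := fun i => U.ι (ξ i)
  have hcpt : ∀ V : X.Opens, IsAffineOpen V → {i | (closure {ζ i} ∩ (V : Set X)).Nonempty}.Finite := by
    intro V hV
    haveI : IsNoetherianRing Γ(X, V) := IsLocallyNoetherian.component_noetherian ⟨V, hV⟩
    haveI : TopologicalSpace.NoetherianSpace (V : Set X) :=
      noetherianSpace_of_isAffineOpen V hV
    let K : Set ↥(U : Scheme.{u}) := U.ι ⁻¹' (V : Set X)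
    have hK : IsCompact K := by
      have h1 : IsCompact (Subtype.val ⁻¹' (U : Set X) : Set (V : Set X)) := TopologicalSpace.NoetherianSpace.isCompact _
      rw [U.ι.isEmbedding.isInducing.isCompact_iff]
      convert h1.image continuous_subtype_val using 1
      ext x
      constructor
      · rintro ⟨u, hu, rfl⟩
        exact ⟨⟨U.ι u, hu⟩, u.2, rfl⟩
      · rintro ⟨v, hv, rfl⟩
        exact ⟨⟨v.1, hv⟩, v.2, rfl⟩
    choose W hWo hxW hWf using hlf
    obtain ⟨t, ht⟩ := hK.elim_finite_subcover W hWo fun x _ => Set.mem_iUnion.2 ⟨x, hxW x⟩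
    refine (t.finite_toSet.biUnion fun x _ => hWf x).subset ?_
    rintro i ⟨x, hx, hxV⟩
    have hi : ξ i ∈ K := (specializes_iff_mem_closure.2 hx).mem_open V.isOpen hxV
    obtain ⟨z, hz, hiz⟩ := Set.mem_iUnion₂.1 (ht hi)
    exact Set.mem_biUnion hz ⟨ξ i, subset_closure rfl, hiz⟩
  let φ : X → ℤ := fun x => ∑ᶠ i, Cyc.divFun δ (ζ i) (g' i) x
  have hφsum : ∀ (V : X.Opens) (hV : IsAffineOpen V) (x : X), x ∈ V →
      φ x = ∑ i ∈ (hcpt V hV).toFinset, Cyc.divFun δ (ζ i) (g' i) x := fun V hV x hx => by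
    refine finsum_eq_sum_of_support_subset _ fun i hi => ?_
    rw [Finset.mem_coe, Set.Finite.mem_toFinset]
    by_contra hni
    refine hi ?_
    show Cyc.divFun δ (ζ i) (g' i) x = 0
    rw [Cyc.divFun, dif_neg fun hh => hni ⟨x, specializes_iff_mem_closure.1 hh.1, hx⟩]
  have hφsupp : ∀ x, φ x ≠ 0 → δ x = k := fun x hx => by
    obtain ⟨i, hi⟩ : ∃ i, Cyc.divFun δ (ζ i) (g' i) x ≠ 0 := by
      by_contra hc
      push Not at hc
      exact hx (finsum_eq_zero_of_forall_eq_zero hc)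
    rw [Cyc.divFun] at hi
    split at hi
    swap
    · exact absurd rfl hi
    rename_i hh
    have := hξk i
    have := hh.2
    simp only [ζ] at *
    omega
  let Φ : AlgebraicCycle X ℤ :=
    { toFun := φ
      supportWithinDomain' := by simp
      supportLocallyFiniteWithinDomain' := fun x _ => by
        obtain ⟨V, hV, hxV, -⟩ := exists_isAffineOpen_mem_and_subset (X := X) (x := x) (U := ⊤) trivial
        refine ⟨V, V.isOpen.mem_nhds hxV, ((hcpt V hV).biUnion fun i _ =>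
          finite_divFun_support hX (ζ i) (hg0 i) hV).subset ?_⟩
        rintro z ⟨hzV, hz⟩
        have hz' : φ z ≠ 0 := hz
        rw [hφsum V hV z hzV] at hz'
        obtain ⟨i, hi, hne⟩ := Finset.exists_ne_zero_of_sum_ne_zero hz'
        exact Set.mem_biUnion ((hcpt V hV).mem_toFinset.1 hi) ⟨hzV, hne⟩ }
  refine ⟨α - β - Φ, fun x hx => ?_, fun x hx => ?_, I, ζ, g', hξk, hg0, fun x => ?_, fun x => ?_⟩
  · show α x - β x - φ x = 0
    rw [hα x hx, hβ x hx, not_not.1 fun h0 => hx (hφsupp x h0), sub_zero, sub_zero]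
  · obtain ⟨u, rfl⟩ : x ∈ Set.range U.ι := by rw [U.range_ι]; exact hx
    show α (U.ι u) - β (U.ι u) - φ (U.ι u) = 0
    have h1 : αU u - βU u = ∑ᶠ i, Cyc.divFun (fun u : ↥U => δ (U.ι u)) (ξ i) (g i) u := hsum u
    rw [← hαU, ← hβU, h1, sub_eq_zero]
    refine finsum_congr fun i => ?_
    rw [divFun_closedImmersion U.ι hX (rfl : U.ι (ξ i) = ζ i) (hg0 i) u, gpull_rfl, hg' i]
    rfl
  · obtain ⟨V, hV, hxV, -⟩ := exists_isAffineOpen_mem_and_subset (X := X) (x := x) (U := ⊤) trivial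
    exact ⟨V, V.isOpen, hxV, hcpt V hV⟩
  · show α x - (β x + (α x - β x - φ x)) = φ x
    ring

end CycPushLib

end
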