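import Mathlib
import Groth.Agent.CycPushLib.Local
import Groth.Agent.CycAlgLib.EndoQuot
import Groth.Agent.DvrLenLib.Stalks

/-!
# Lengths of modules over semilocal rings
-/

set_option autoImplicit false
set_option linter.style.haveILetI false
set_option linter.unusedSectionVars false

universe u

open IsLocalRing

noncomputable section

namespace CycPushLib

variable {A₀ B₀ : Type u} [CommRing A₀] [CommRing B₀] [Algebra A₀ B₀] (𝔭 : Ideal A₀) [𝔭.IsPrime]
  (A : Type u) [CommRing A] [Algebra A₀ A] [IsLocalization.AtPrime A 𝔭] [IsLocalRing A]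
  (B : Type u) [CommRing B] [Algebra B₀ B] [IsLocalization (Algebra.algebraMapSubmonoid B₀ 𝔭.primeCompl) B]
  [Algebra A B] [Algebra A₀ B] [IsScalarTower A₀ A B] [IsScalarTower A₀ B₀ B] [Module.Finite A B]
  {M₀ N : Type u} [AddCommGroup M₀] [Module B₀ M₀] [Module A₀ M₀] [IsScalarTower A₀ B₀ M₀]
  [AddCommGroup N] [Module B N] [Module B₀ N] [IsScalarTower B₀ B N] [Module A₀ N] [IsScalarTower A₀ B₀ N]
  (j : M₀ →ₗ[B₀] N) [IsLocalizedModule (Algebra.algebraMapSubmonoid B₀ 𝔭.primeCompl) j]

/-- A localization at the image of a submonoid is a localization at the submonoid. -/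
theorem isLocalizedModule_restrict : IsLocalizedModule 𝔭.primeCompl (j.restrictScalars A₀) := by
  refine ⟨fun s => ?_, fun n => ?_, fun {m n} h => ?_⟩
  · have h := IsLocalizedModule.map_units (S := Algebra.algebraMapSubmonoid B₀ 𝔭.primeCompl) j
      ⟨_, ⟨s.1, s.2, rfl⟩⟩
    rw [Module.End.isUnit_iff] at h ⊢
    refine ⟨fun a b hab => h.1 ?_, fun a => ?_⟩
    · show algebraMap A₀ B₀ s.1 • a = algebraMap A₀ B₀ s.1 • b
      rw [algebraMap_smul, algebraMap_smul]
      exact hab
    · obtain ⟨b, hb⟩ := h.2 a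
      refine ⟨b, ?_⟩
      show s.1 • b = a
      rw [← algebraMap_smul B₀ s.1 b]
      exact hb
  · obtain ⟨⟨m, ⟨_, s, hs, rfl⟩⟩, h⟩ := IsLocalizedModule.surj (Algebra.algebraMapSubmonoid B₀ 𝔭.primeCompl) j n
    exact ⟨⟨m, ⟨s, hs⟩⟩, (algebraMap_smul B₀ s n).symm.trans h⟩
  · obtain ⟨⟨_, s, hs, rfl⟩, h⟩ := IsLocalizedModule.exists_of_eq
      (S := Algebra.algebraMapSubmonoid B₀ 𝔭.primeCompl) (f := j) h
    exact ⟨⟨s, hs⟩, (algebraMap_smul B₀ s m).symm.trans (h.trans (algebraMap_smul B₀ s n))⟩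

include 𝔭 j in
/-- The support of the localization. -/
theorem below_mem_support {Q : PrimeSpectrum B} (hQ : Q ∈ Module.support B N) :
    PrimeSpectrum.comap (algebraMap B₀ B) Q ∈ Module.support B₀ M₀ := by
  rw [Module.mem_support_iff'] at hQ ⊢
  obtain ⟨n, hn⟩ := hQ
  obtain ⟨⟨a, s⟩, hs⟩ := IsLocalizedModule.surj (Algebra.algebraMapSubmonoid B₀ 𝔭.primeCompl) j n
  refine ⟨a, fun t ht hta => hn (algebraMap B₀ B (t * s)) (fun hmem => ?_) ?_⟩
  · rw [map_mul] at hmem
    rcases Q.2.mem_or_mem hmem with h | h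
    · exact ht h
    · exact Q.2.ne_top (Ideal.eq_top_of_isUnit_mem _ h (IsLocalization.map_units B s))
  · rw [algebraMap_smul, mul_smul]
    have h1 : t • ((s : B₀) • n) = t • j a := congrArg (t • ·) hs
    rw [h1, ← map_smul, hta, map_zero]

variable [IsNoetherianRing B₀] [Module.Finite B₀ M₀]

include 𝔭 A j in
/-- Finite length of the localization, when the support is minimal over the prime. -/
theorem isFiniteLength_localization
    (hmin : ∀ r ∈ Module.support B₀ M₀, ∀ q : MaximalSpectrum B,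
      r ≤ primeBelow (B₀ := B₀) B q → r = primeBelow (B₀ := B₀) B q) :
    IsFiniteLength B N := by
  haveI : IsNoetherianRing B :=
    IsLocalization.isNoetherianRing (Algebra.algebraMapSubmonoid B₀ 𝔭.primeCompl) B inferInstance
  haveI : Module.Finite B N := Module.Finite.of_isLocalizedModule (Algebra.algebraMapSubmonoid B₀ 𝔭.primeCompl) j
  refine Module.length_ne_top_iff.1 (CycAlgLib.length_lt_top_of_supportDim_nonpos ?_).ne
  rw [Module.supportDim, Order.krullDim_nonpos_iff_forall_isMax]
  have hmaxl : ∀ Q ∈ Module.support B N, Q.asIdeal.IsMaximal := by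
    intro Q hQ
    obtain ⟨m, hm, hQm⟩ := Ideal.exists_le_maximal _ Q.2.ne_top
    have h3 := hmin _ (below_mem_support 𝔭 B j hQ) ⟨m, hm⟩ (Ideal.comap_mono hQm)
    have h4 : Q.asIdeal = m := by
      have h' : Q.asIdeal.under B₀ = m.under B₀ := congrArg PrimeSpectrum.asIdeal h3
      rw [← IsLocalization.map_comap (Algebra.algebraMapSubmonoid B₀ 𝔭.primeCompl) B Q.asIdeal,
        ← IsLocalization.map_comap (Algebra.algebraMapSubmonoid B₀ 𝔭.primeCompl) B m, h']
    rw [h4]
    exact hm
  rintro ⟨a, ha⟩ ⟨b, hb⟩ hab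
  exact le_of_eq (Subtype.ext (PrimeSpectrum.ext ((hmaxl a ha).eq_of_le b.2.ne_top hab).symm))

include 𝔭 j in
/-- The localization of the localization at a maximal ideal. -/
theorem length_localized_localization (q : MaximalSpectrum B) (r : Ideal B₀) [r.IsPrime]
    [IsLocalization.AtPrime (Localization.AtPrime q.asIdeal) r]
    (S : Type u) [CommRing S] [Algebra B₀ S] [IsLocalization.AtPrime S r]
    {P : Type u} [AddCommGroup P] [Module B₀ P] [Module S P] [IsScalarTower B₀ S P]
    (θ' : M₀ →ₗ[B₀] P) [IsLocalizedModule r.primeCompl θ'] :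
    Module.length (Localization.AtPrime q.asIdeal) (LocalizedModule q.asIdeal.primeCompl N) = Module.length S P := by
  haveI := q.isMaximal
  let L := Localization.AtPrime q.asIdeal
  let Nq := LocalizedModule q.asIdeal.primeCompl N
  haveI : IsScalarTower B₀ L Nq := IsScalarTower.of_algebraMap_smul fun a n => by
    rw [IsScalarTower.algebraMap_apply B₀ B L, algebraMap_smul, algebraMap_smul]
  let θ : M₀ →ₗ[B₀] Nq := ((LocalizedModule.mkLinearMap q.asIdeal.primeCompl N).restrictScalars B₀).comp j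
  haveI : IsLocalizedModule r.primeCompl θ := by
    have hbc : IsBaseChange L θ :=
      (IsLocalizedModule.isBaseChange (Algebra.algebraMapSubmonoid B₀ 𝔭.primeCompl) B j).comp
        (IsLocalizedModule.isBaseChange q.asIdeal.primeCompl L (LocalizedModule.mkLinearMap q.asIdeal.primeCompl N))
    exact (isLocalizedModule_iff_isBaseChange r.primeCompl L θ).2 hbc
  exact DvrLenLib.length_eq_of_isLocalizedModule r.primeCompl θ θ'

end CycPushLib

end
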