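import Mathlib
import Groth.Prelude.Def_Cyc
import Groth.Agent.CycPushLib.FiniteLen
import Groth.Agent.CycPushLib.Vanish
import Groth.Agent.CycC1Lib.Pull
import Groth.Agent.DevissLib.AnnIdeal
import Groth.Agent.DevissLib.KilledImm
import Groth.Agent.DevissLib.ClosedImm
import Groth.Agent.DegPullLib.Rank
import Groth.Agent.FlatLib.QStalk
import Groth.Agent.DvrLenLib.Stalks
import Groth.Agent.CycAlgLib.EndoQuot
import Groth.Agent.CycPushLib.SemiModule

/-!
# Pushforward of the cycle of a coherent module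
-/

set_option autoImplicit false
set_option linter.style.haveILetI false
set_option linter.unusedSectionVars false

universe u

open AlgebraicGeometry CategoryTheory IsLocalRing Opposite

noncomputable section

namespace CycPushLib

variable {X Y Z : Scheme.{u}}

theorem length_stalk_iso {F G : X.Modules} (e : F ≅ G) (x : X) :
    Module.length (X.presheaf.stalk x) (F.presheaf.stalk x) = Module.length (X.presheaf.stalk x) (G.presheaf.stalk x) :=
  ((DerSch.stalkFunctor X x).mapIso e).toLinearEquiv.length_eq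

theorem length_stalk_push_closed (i : Z ⟶ X) [IsClosedImmersion i] (G : Z.Modules) (z : Z) :
    Module.length (X.presheaf.stalk (i z)) (((Coh.push i).obj G).presheaf.stalk (i z)) =
      Module.length (Z.presheaf.stalk z) (G.presheaf.stalk z) := by
  letI : Algebra (X.presheaf.stalk (i z)) (Z.presheaf.stalk z) := (i.stalkMap z).hom.toAlgebra
  letI : Module (X.presheaf.stalk (i z)) (G.presheaf.stalk z) :=
    Module.compHom _ (i.stalkMap z).hom
  haveI : IsScalarTower (X.presheaf.stalk (i z)) (Z.presheaf.stalk z) (G.presheaf.stalk z) :=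
    IsScalarTower.of_compHom _ _ _
  let σ := (TopCat.Presheaf.stalkPushforward AddCommGrpCat i.base G.presheaf z).hom
  let σ' : ((Coh.push i).obj G).presheaf.stalk (i z) →ₗ[X.presheaf.stalk (i z)] G.presheaf.stalk z :=
    { toFun := fun a => σ a
      map_add' := fun a b => map_add σ a b
      map_smul' := fun c a => DegPullLib.stalkPushforward_smul i G z c a }
  let e := LinearEquiv.ofBijective σ' (DegPullLib.bijective_stalkPushforward i i.isClosedEmbedding.isClosedMap
    G z fun w hw => i.isClosedEmbedding.injective hw)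
  have hs : Function.Surjective (algebraMap (X.presheaf.stalk (i z)) (Z.presheaf.stalk z)) :=
    i.stalkMap_surjective z
  rw [e.length_eq, Module.length_eq_of_surjective (R := Z.presheaf.stalk z) hs]

/-- The stalk of a direct image at a point over which the morphism is finite on the support. -/
theorem length_stalk_push_finite [IsLocallyNoetherian Z] (g : Z ⟶ Y) [IsProper g] (G : Z.Modules)
    (hG : Coh.IsCoh G) (y : Y) (hfin : (g ⁻¹' {y}).Finite)
    (hmax : ∀ z z' : Z, g z = y → z' ⤳ z → z' ∈ CohB1.support G → z' = z) :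
    ((Module.length (Y.presheaf.stalk y) (((Coh.push g).obj G).presheaf.stalk y)).toNat : ℤ) =
      ∑ᶠ z ∈ g ⁻¹' {y}, (g.residueDegree z : ℤ) *
        ((Module.length (Z.presheaf.stalk z) (G.presheaf.stalk z)).toNat : ℤ) := by
  classical
  haveI : Coh.IsQCoh G := hG.1
  haveI : Coh.IsQCoh ((Coh.push g).obj G) := QCohLib.isQCoh_pushforward g G
  obtain ⟨V₁, hyV₁, hV₁⟩ := exists_isFinite_morphismRestrict_of_finite_preimage_singleton g y hfin
  obtain ⟨_, ⟨V, hV, rfl⟩, hy, hVV⟩ := Y.isBasis_affineOpens.exists_subset_of_mem_open hyV₁ V₁.isOpen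
  haveI : IsFinite (g ∣_ V) := BiratLib.restrict_of_le g (P := @IsFinite) hVV hV₁
  haveI : IsAffine (V : Scheme.{u}) := hV
  have hU : IsAffineOpen (g ⁻¹ᵁ V) := isAffine_of_isAffineHom (g ∣_ V)
  have hfinapp := BiratLib.finite_app_of_restrict g V inferInstance
  let A₀ := Γ(Y, V)
  let B₀ := Γ(Z, g ⁻¹ᵁ V)
  letI : Algebra A₀ B₀ := (g.app V).hom.toAlgebra
  haveI : Module.Finite A₀ B₀ := hfinapp
  haveI : IsNoetherianRing B₀ := IsLocallyNoetherian.component_noetherian ⟨_, hU⟩
  let M₀ := Γ(G, g ⁻¹ᵁ V)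
  letI : Module A₀ M₀ := Module.compHom M₀ (g.app V).hom
  haveI : IsScalarTower A₀ B₀ M₀ := IsScalarTower.of_compHom _ _ _
  haveI : Module.Finite B₀ M₀ := QCohLib.finite_of_isFT hG.2 hU
  let 𝔭 := hV.primeIdealOf ⟨y, hy⟩
  let A := Localization.AtPrime 𝔭.asIdeal
  let M := Algebra.algebraMapSubmonoid B₀ 𝔭.asIdeal.primeCompl
  let B := Localization M
  letI algAB : Algebra A B := localizationAlgebra 𝔭.asIdeal.primeCompl B₀
  haveI : IsScalarTower A₀ A B := IsScalarTower.of_algebraMap_eq fun a => by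
    rw [IsScalarTower.algebraMap_apply A₀ B₀ B]
    exact (IsLocalization.map_eq _ a).symm
  haveI : Module.Finite A B := Module.Finite.of_isLocalization A₀ B₀ 𝔭.asIdeal.primeCompl
  let N' := LocalizedModule M M₀
  letI : Module A N' := Module.compHom N' (algebraMap A B)
  haveI : IsScalarTower A B N' := IsScalarTower.of_compHom _ _ _
  haveI : IsScalarTower A₀ B N' := IsScalarTower.of_algebraMap_smul fun a n => by
    rw [IsScalarTower.algebraMap_apply A₀ B₀ B, algebraMap_smul, algebraMap_smul]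
  haveI : IsScalarTower A₀ A N' := IsScalarTower.of_algebraMap_smul fun a n => by
    show algebraMap A B (algebraMap A₀ A a) • n = a • n
    rw [← IsScalarTower.algebraMap_apply A₀ A B, algebraMap_smul]
  let j : M₀ →ₗ[B₀] N' := LocalizedModule.mkLinearMap M M₀
  let mk' : M₀ →ₗ[A₀] N' := j.restrictScalars A₀
  haveI : IsLocalizedModule 𝔭.asIdeal.primeCompl mk' := isLocalizedModule_restrict 𝔭.asIdeal j
  -- the stalk downstairs
  have hlen : Module.length (Y.presheaf.stalk y) (((Coh.push g).obj G).presheaf.stalk y) = Module.length A N' := by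
    let P := (Coh.push g).obj G
    letI := Y.presheaf.algebra_section_stalk (⟨y, hy⟩ : V)
    haveI := hV.isLocalization_stalk ⟨y, hy⟩
    letI : Module A₀ (P.presheaf.stalk y) := Module.compHom _ (Y.presheaf.germ V y hy).hom
    haveI : IsScalarTower A₀ (Y.presheaf.stalk y) (P.presheaf.stalk y) :=
      IsScalarTower.of_algebraMap_smul fun _ _ => rfl
    let γ : M₀ →ₗ[A₀] P.presheaf.stalk y :=
      { toFun := fun m => FlatLib.germLin P hy m
        map_add' := fun a b => map_add (FlatLib.germLin P hy) a b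
        map_smul' := fun r m => (FlatLib.germLin P hy).map_smul r m }
    haveI : IsLocalizedModule 𝔭.asIdeal.primeCompl γ := by
      have h := FlatLib.isLocalizedModule_germLin P hV hy
      exact ⟨h.map_units, h.surj, fun {m n} hmn => h.exists_of_eq hmn⟩
    exact DvrLenLib.length_eq_of_isLocalizedModule 𝔭.asIdeal.primeCompl γ mk'
  obtain ⟨e, he, hrange, hpt⟩ := exists_semilocal_fibre g hV hU hy (fun _ => rfl) A B
  haveI : Finite (MaximalSpectrum B) := by
    haveI : Finite ↥(g ⁻¹' {y}) := hfin.to_subtype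
    exact Finite.of_injective (fun q => (⟨e q, hrange.le ⟨q, rfl⟩⟩ : g ⁻¹' {y})) fun a b h =>
      he (congrArg Subtype.val h)
  letI : Fintype (MaximalSpectrum B) := Fintype.ofFinite _
  -- the points
  have hbelow : ∀ (q : MaximalSpectrum B) (hxU : e q ∈ g ⁻¹ᵁ V),
      IsLocalization.AtPrime (Localization.AtPrime q.asIdeal) (hU.primeIdealOf ⟨e q, hxU⟩).asIdeal →
        hU.primeIdealOf ⟨e q, hxU⟩ = primeBelow (B₀ := B₀) B q := by
    intro q hxU hloc
    haveI := q.isMaximal
    haveI := hloc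
    apply PrimeSpectrum.ext
    have h1 := IsLocalization.AtPrime.comap_maximalIdeal (Localization.AtPrime q.asIdeal)
      (hU.primeIdealOf ⟨e q, hxU⟩).asIdeal
    rw [← h1, Ideal.under, IsScalarTower.algebraMap_eq B₀ B (Localization.AtPrime q.asIdeal), ← Ideal.comap_comap,
      show (maximalIdeal (Localization.AtPrime q.asIdeal)).comap (algebraMap B (Localization.AtPrime q.asIdeal)) =
        q.asIdeal from IsLocalization.AtPrime.comap_maximalIdeal _ q.asIdeal]
    rfl
  have hmin : ∀ r ∈ Module.support B₀ M₀, ∀ q : MaximalSpectrum B,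
      r ≤ primeBelow (B₀ := B₀) B q → r = primeBelow (B₀ := B₀) B q := by
    intro r hr q hle
    obtain ⟨hxU, hloc, -⟩ := hpt q
    have hb := hbelow q hxU hloc
    let z' : Z := hU.fromSpec r
    have hz'U : z' ∈ g ⁻¹ᵁ V := by
      have h1 : z' ∈ Set.range hU.fromSpec := ⟨r, rfl⟩
      rwa [hU.range_fromSpec] at h1
    have hr' : hU.primeIdealOf ⟨z', hz'U⟩ = r :=
      hU.fromSpec.isOpenEmbedding.injective (hU.fromSpec_primeIdealOf _)
    have hsupp : z' ∈ CohB1.support G := (QCohLib.mem_support_iff hU hz'U).1 (hr'.symm ▸ hr)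
    have hsp : z' ⤳ e q := by
      have h := ((PrimeSpectrum.le_iff_specializes r (hU.primeIdealOf ⟨_, hxU⟩)).mp (hb ▸ hle)).map hU.fromSpec.continuous
      rwa [hU.fromSpec_primeIdealOf] at h
    have heq : z' = e q := hmax _ _ (hrange.le ⟨_, rfl⟩) hsp hsupp
    rw [← hr', ← hb]
    congr 1
    exact Subtype.ext heq
  have hfl : IsFiniteLength B N' := isFiniteLength_localization 𝔭.asIdeal A B j hmin
  have hm : ∀ q : MaximalSpectrum B,
      Module.length (Localization.AtPrime q.asIdeal) (LocalizedModule q.asIdeal.primeCompl N') =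
        Module.length (Z.presheaf.stalk (e q)) (G.presheaf.stalk (e q)) := by
    intro q
    obtain ⟨hxU, hloc, -⟩ := hpt q
    haveI := hloc
    letI := Z.presheaf.algebra_section_stalk (⟨e q, hxU⟩ : (g ⁻¹ᵁ V : Z.Opens))
    haveI := hU.isLocalization_stalk ⟨e q, hxU⟩
    letI : Module B₀ (G.presheaf.stalk (e q)) := Module.compHom _ (Z.presheaf.germ (g ⁻¹ᵁ V) (e q) hxU).hom
    haveI : IsScalarTower B₀ (Z.presheaf.stalk (e q)) (G.presheaf.stalk (e q)) :=
      IsScalarTower.of_algebraMap_smul fun _ _ => rfl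
    haveI := FlatLib.isLocalizedModule_germLin G hU hxU
    exact length_localized_localization 𝔭.asIdeal B j q (hU.primeIdealOf ⟨e q, hxU⟩).asIdeal
      (Z.presheaf.stalk (e q)) (FlatLib.germLin G hxU)
  have hfl' : ∀ q : MaximalSpectrum B, Module.length (Z.presheaf.stalk (e q)) (G.presheaf.stalk (e q)) ≠ ⊤ := by
    intro q
    rw [← hm q]
    haveI := q.isMaximal
    haveI := (isFiniteLength_iff_isNoetherian_isArtinian.1 hfl).1
    haveI := (isFiniteLength_iff_isNoetherian_isArtinian.1 hfl).2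
    let gi := Submodule.localized'gi (Localization.AtPrime q.asIdeal) q.asIdeal.primeCompl
      (LocalizedModule.mkLinearMap q.asIdeal.primeCompl N')
    exact Module.length_ne_top_iff.2 (isFiniteLength_iff_isNoetherian_isArtinian.2
      ⟨isNoetherian_iff'.2 gi.strictMono_u.wellFoundedGT, gi.strictMono_u.wellFoundedLT⟩)
  rw [hlen, TameLib.length_eq_sum A N' hfl]
  simp only [hm]
  refine (CycDivLib.toNat_sum Finset.univ _ fun q _ => WithTop.mul_ne_top (ENat.natCast_ne_top _) (hfl' q)).trans ?_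
  rw [← hrange, finsum_mem_range he, finsum_eq_sum_of_fintype]
  refine Finset.sum_congr rfl fun q _ => ?_
  obtain ⟨-, -, hdeg⟩ := hpt q
  refine ((congrArg Nat.cast (ENat.toNat_mul _ _)).trans (Nat.cast_mul _ _)).trans ?_
  rw [ENat.toNat_natCast, hdeg]

/-- The pushforward of the cycle of a coherent module. -/
theorem map_sheafFun (hX : IsLocallyNoetherian X) {δX : X → ℤ} {δY : Y → ℤ} (hdX : Cyc.IsDimFun X δX)
    (f : X ⟶ Y) [IsProper f] (hδ : Cyc.DeltaCompat f δX δY) (k : ℤ) (F : X.Modules) (hF : Coh.IsCoh F)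
    (hdim : ∀ x : X, Nontrivial (F.presheaf.stalk x) → δX x ≤ k) (α : AlgebraicCycle X ℤ)
    (hα : ⇑α = Cyc.sheafFun δX k F) :
    ⇑(AlgebraicCycle.map f δX δY α) = Cyc.sheafFun δY k ((Coh.push f).obj F) := by
  classical
  haveI : Coh.IsQCoh F := hF.1
  let I := DevissLib.annIdeal F hF.2
  let Z := I.subscheme
  let i : Z ⟶ X := I.subschemeι
  have hk : ClSub.KilledByIdeal i.ker F := by
    rw [Scheme.IdealSheafData.ker_subschemeι]
    exact DevissLib.killed_annIdeal (F := F) (hF := hF.2)
  obtain ⟨G, hG, ⟨eG⟩⟩ := DevissLib.exists_coh_of_killed i hF hk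
  haveI : IsLocallyNoetherian Z := LocallyOfFiniteType.isLocallyNoetherian i
  have hrange : Set.range i = CohB1.support F := by
    rw [Scheme.IdealSheafData.range_subschemeι]
    exact DevissLib.support_annIdeal (F := F) (hF := hF.2)
  have hne : ∀ x, x ∈ CohB1.support F → Nontrivial (F.presheaf.stalk x) := fun x hx => by
    obtain ⟨a, ha⟩ := (DevissLib.mem_support_iff_nonzero F x).1 hx
    exact ⟨⟨a, 0, ha⟩⟩
  have hzk : ∀ z : Z, δX (i z) ≤ k := fun z => hdim _ (hne _ (hrange.le ⟨z, rfl⟩))
  let g := i ≫ f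
  funext y
  show ∑ᶠ x ∈ f ⁻¹' {y}, α x * ((AlgebraicCycle.mapCoeff f δX δY x : ℕ) : ℤ) = _
  simp only [Cyc.sheafFun]
  split_ifs with hy
  swap
  · refine finsum_mem_eq_zero_of_forall_eq_zero fun x hx => ?_
    rw [hα, AlgebraicCycle.mapCoeff]
    simp only [Cyc.sheafFun]
    split_ifs with h1 h2
    · exact absurd ((congrArg δY (hx : f x = y)).symm.trans (h2.symm.trans h1)) hy
    all_goals simp
  have hzy : ∀ z : Z, g z = y → δX (i z) = k ∧ δX (i z) = δY (f (i z)) := by
    intro z hz
    obtain ⟨n, -, hn⟩ := hδ (i z)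
    have h1 := hzk z
    have h2 : f (i z) = y := hz
    rw [h2] at hn ⊢
    omega
  have hmax : ∀ z z' : Z, g z = y → z' ⤳ z → z' = z := by
    intro z z' hz hsp
    by_contra hne'
    have h1 := (hdX (i z') (i z) (hsp.map i.continuous) fun h => hne' (i.isEmbedding.injective h)).1
    have h2 := hzk z'
    have h3 := (hzy z hz).1
    omega
  have hfin : (g ⁻¹' {y}).Finite := by
    obtain ⟨V, hV, hyV, -⟩ := exists_isAffineOpen_mem_and_subset (X := Y) (x := y) (U := ⊤) trivial
    have hK : IsCompact (g ⁻¹' (V : Set Y)) := QuasiCompact.isCompact_preimage (f := g) _ V.isOpen hV.isCompact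
    choose W hW hzW _ using fun z : Z => exists_isAffineOpen_mem_and_subset (X := Z) (x := z) (U := ⊤) trivial
    obtain ⟨t, ht⟩ := hK.elim_finite_subcover (fun z => (W z : Set Z)) (fun z => (W z).isOpen)
      fun z _ => Set.mem_iUnion.2 ⟨z, hzW z⟩
    refine (t.finite_toSet.biUnion fun z _ => CycC1Lib.finite_gen_inter_affine g (hW z) y).subset ?_
    intro z hz
    obtain ⟨w, hw, hzw⟩ := Set.mem_iUnion₂.1 (ht (show g z ∈ V by rw [show g z = y from hz]; exact hyV))
    exact Set.mem_biUnion hw ⟨hzw, fun z' _ hsp => hmax z z' hz hsp, hz⟩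
  have hlen : Module.length (Y.presheaf.stalk y) (((Coh.push f).obj F).presheaf.stalk y) =
      Module.length (Y.presheaf.stalk y) (((Coh.push g).obj G).presheaf.stalk y) :=
    length_stalk_iso ((Coh.push f).mapIso eG.symm ≪≫ (Scheme.Modules.pushforwardComp i f).app G) y
  rw [hlen, length_stalk_push_finite g G hG y hfin fun z z' hz hsp _ => hmax z z' hz hsp]
  have hset : f ⁻¹' {y} ∩ Set.range i = i '' (g ⁻¹' {y}) := by
    ext x
    constructor
    · rintro ⟨hx, z, rfl⟩
      exact ⟨z, hx, rfl⟩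
    · rintro ⟨z, hz, rfl⟩
      exact ⟨hz, z, rfl⟩
  rw [finsum_mem_inter_support_eq (fun x => α x * ((AlgebraicCycle.mapCoeff f δX δY x : ℕ) : ℤ)) (f ⁻¹' {y})
    (f ⁻¹' {y} ∩ Set.range i) ?_, hset, finsum_mem_image i.isEmbedding.injective.injOn]
  · refine finsum_mem_congr rfl fun z hz => ?_
    obtain ⟨h1, h2⟩ := hzy z hz
    rw [hα, AlgebraicCycle.mapCoeff, if_pos h2]
    simp only [Cyc.sheafFun]
    rw [if_pos h1, length_stalk_iso eG.symm (i z)]
    erw [length_stalk_push_closed i G z]
    rw [residueDegree_comp i f z, residueDegree_eq_one_of_preimmersion i z, one_mul, mul_comm]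
  · refine Set.Subset.antisymm (fun x hx => ⟨⟨hx.1, ?_⟩, hx.2⟩) fun x hx => ⟨hx.1.1, hx.2⟩
    rw [hrange]
    by_contra hns
    refine hx.2 ?_
    show α x * _ = 0
    rw [hα]
    simp only [Cyc.sheafFun]
    have hsub : Subsingleton (F.presheaf.stalk x) := not_nontrivial_iff_subsingleton.1 fun h => by
      obtain ⟨a, b, hab⟩ := h
      refine hns ((DevissLib.mem_support_iff_nonzero F x).2 ?_)
      by_cases ha : a = 0
      · exact ⟨b, fun hb => hab (ha.trans hb.symm)⟩
      · exact ⟨a, ha⟩
    haveI := hsub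
    rw [Module.length_eq_zero]
    simp

end CycPushLib

end
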